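import Cfsg.Agent.Lib.ExSp4.Std

/-! Fusion systems over the Sylow subgroup of `Sp(4, K)` in characteristic two: comparison. -/

set_option autoImplicit false

namespace CfsgLib.ExSp4

open Subgroup Cfsg Cfsg.FusionSystem CfsgLib.Fusion

variable {K : Type*} [Field K]

/-- A fusion system in standard position. -/
structure Std (F : FusionSystem (⊤ : Subgroup (U K))) : Prop where
  sat : F.IsSaturated 2
  w1 : ∃ w, Sw F (QQ 0) U.t w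
  w2 : ∃ w, Sw F (AA K) U.u w
  z1 : Ivt F (QQ 0) (ZS K)
  z2 : Ivt F (AA K) (ZS K)

variable [CharP K 2] [Finite K] {F F' : FusionSystem (⊤ : Subgroup (U K))} {E : Subgroup (U K)}
  {f : U K → U K} {c d : K} {v : U K}

omit [Finite K] in
theorem beta1 (s x y : K) (hs : s ≠ 0) : x ^ 2 * s + (y + x * s) ^ 2 * s⁻¹ + (y / s) ^ 2 * s = 0 := by
  field_simp
  linear_combination (x ^ 2 * s ^ 2 + x * s * y + y ^ 2) * CharTwo.two_eq_zero (R := K)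

namespace Std

variable (h : Std F)
include h

theorem cube (s : K) (hs : s ≠ 0) : s ^ 3 = 1 := h.w2.elim fun _ hw => ExSp4.cube h.sat hw hs

theorem beta2 (s x y : K) (hs : s ≠ 0) : s ^ 2 * x + s⁻¹ ^ 2 * (y + x * s) + s ^ 2 * (y / s) = 0 := by
  field_simp
  linear_combination (x * s + y) * h.cube s hs + (x * s + y) * CharTwo.two_eq_zero (R := K)

theorem aut (hf : Mor F ⊤ f) :
    ∃ (s : U K) (c d : K), c ≠ 0 ∧ d ≠ 0 ∧ ∀ x, s * f x * s⁻¹ = dg c d x := by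
  have h2 := CharTwo.two_eq_zero (R := K)
  obtain ⟨w1, hw1⟩ := h.w1
  obtain ⟨w2, hw2⟩ := h.w2
  have au : ∀ f, Mor F ⊤ f → Au F (QQ 0) f ∧ Au F (AA K) f := fun f hf =>
    ⟨⟨hf.mono le_top, fun x hx => by
      simpa [mem_QQ] using (mor_E h.sat hf).1 x (by simpa [mem_QQ] using hx)⟩,
      hf.mono le_top, (mor_E h.sat hf).2⟩
  obtain ⟨s1, e1⟩ := ch1.adjust h.sat hw1 h.z1 (au f hf).1 fun _ => (mor_ZT hf).2
  obtain ⟨s2, e2⟩ := ch2.adjust h.sat hw2 h.z2 (au f hf).2 fun _ => (mor_ZT hf).2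
  let s : U K := ⟨s2.t, s1.u, 0, 0⟩
  have hg := hf.conj_left (mem_top s)
  obtain ⟨g, eg⟩ : ∃ g : U K → U K, ∀ x, s * f x * s⁻¹ = g x := ⟨_, fun _ => rfl⟩
  simp only [eg] at hg
  replace e1 : ∀ x ∈ QQ (0 : K), x.a = 0 → (g x).a = 0 := fun x hx ha => by
    rw [← eg, ← e1 x hx ha]
    exact congrArg (·.2.1) ((cj1 s ((au f hf).1.2 x hx)).trans (cj1 s1 ((au f hf).1.2 x hx)).symm)
  replace e2 : ∀ x ∈ AA K, x.a = 0 → (g x).a = 0 := fun x hx ha => by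
    rw [← eg, ← e2 x hx ha]
    exact congrArg (·.2.1) ((cj2 s ((au f hf).2.2 x hx)).trans (cj2 s2 ((au f hf).2.2 x hx)).symm)
  obtain ⟨c, d, hc, hd, e⟩ := mor_tu h.sat h.cube hg
  have eZ := mor_Z h.cube hg (fun x hx => h.z2 g (au g hg).2 x hx.1 hx) hc hd e
  have A : ∀ E : Subgroup (U K), ZT K ≤ E → (∀ x ∈ E, x.t = 0 ∨ x.u = 0) →
      (∀ x ∈ E, x.a = 0 → (g x).a = 0) → ∀ x ∈ E, (g x).a = c * d * x.a := fun E h1 _ h3 x hx => by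
    have h4 : (⟨0, 0, x.a, 0⟩ : U K) ∈ ZT K := ⟨rfl, rfl⟩
    have := h3 _ (E.mul_mem (h1 h4) hx) (by simp [CharTwo.add_self_eq_zero])
    rw [hg.map_mul trivial trivial, eZ _ h4] at this
    simp only [U.mul_a, dg] at this
    linear_combination this - c * d * x.a * h2
  have a1 := A _ ZT_le_QQ (fun x hx => Or.inr (by simpa [mem_QQ] using hx)) e1
  have a2 := A _ ZT_le_AA (fun x hx => Or.inl hx) e2
  refine ⟨s, c, d, hc, hd, fun x => ?_⟩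
  have m1 : (⟨x.t, 0, 0, 0⟩ : U K) ∈ QQ (0 : K) := by simp [mem_QQ]
  have b1 := ch1.diag h.sat hw1 h.z1 beta1 (au g hg).1 hc (mul_ne_zero hc hd) (fun x _ => (e x).1) a1
    m1 rfl rfl
  have b2 := ch2.diag h.sat hw2 h.z2 h.beta2 (au g hg).2 hd (mul_ne_zero hc hd) (fun x _ => (e x).2)
    a2 (x := ⟨0, x.u, 0, 0⟩) rfl rfl rfl
  rw [eZ ⟨0, 0, _, _⟩ ⟨rfl, rfl⟩] at b1 b2
  have : x = ⟨0, 0, x.a, x.b⟩ * ⟨0, x.u, 0, 0⟩ * ⟨x.t, 0, 0, 0⟩ := by ext <;> simp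
  rw [eg, this, hg.map_mul trivial trivial, hg.map_mul trivial trivial, eZ ⟨0, 0, _, _⟩ ⟨rfl, rfl⟩, dg_mul,
    dg_mul]
  congr 1
  · congr 1
    exact U.ext (e _).1 (e _).2 (a2 _ rfl) b2
  · exact U.ext (e _).1 (e _).2 (a1 _ m1) b1

theorem delta (hc : c ≠ 0) : Mor F ⊤ (dg c c) := by
  obtain ⟨w1, hw1⟩ := h.w1
  obtain ⟨g, hg, eg⟩ := ch1.torus h.sat hw1 h.z1 beta1 (inv_ne_zero hc)
  obtain ⟨s, c', d, hc', hd, e⟩ := h.aut hg
  have h1 := congrArg U.t (e ⟨1, 0, 0, 0⟩)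
  have h2 := e ⟨0, 0, 1, 0⟩
  rw [← cen_ZT ((mor_ZT hg).2 ⟨rfl, rfl⟩), mul_inv_cancel_right] at h2
  have h3 : (g ⟨1, 0, 0, 0⟩).t = 1 / c⁻¹ := congrArg (·.1) (eg ⟨1, 0, 0, 0⟩ (by simp [mem_QQ])).2
  have h4 : (g ⟨0, 0, 1, 0⟩).a = 1 * c⁻¹ := congrArg (·.2.1) (eg ⟨0, 0, 1, 0⟩ (by simp [mem_QQ])).2
  obtain rfl : c = c' := by simpa [dg, h3] using h1
  rw [h2] at h4
  obtain rfl : c = d := by
    simp only [dg] at h4
    field_simp at h4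
    exact mul_left_cancel₀ (pow_ne_zero 2 hc) (by linear_combination h.cube c hc - h4)
  exact (hg.conj_left (mem_top s)).congr fun x _ => e x

theorem all (hcd : c ≠ d) (hc : c ≠ 0) (hd : d ≠ 0) (hm : Mor F ⊤ (dg c d)) {c' d' : K}
    (hc' : c' ≠ 0) (hd' : d' ≠ 0) : Mor F ⊤ (dg c' d') := by
  have mul : ∀ {a b a' b' : K}, Mor F ⊤ (dg a b) → Mor F ⊤ (dg a' b') →
      Mor F ⊤ (dg (a * a') (b * b')) := fun h1 h2 =>
    (h2.comp' h1 fun _ _ => trivial).congr fun x _ => dg_dg _ _ _ _ x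
  have h1 := mul hm (h.delta (inv_ne_zero hd))
  rw [mul_inv_cancel₀ hd] at h1
  have h2 := mul h1 h1
  obtain ⟨e, A⟩ := four h.cube (mul_ne_zero hc (inv_ne_zero hd)) fun e => hcd (by
    field_simp at e; exact e)
  rw [← pow_two, e, one_mul] at h2
  have h3 : Mor F ⊤ (dg (c' / d') 1) := by
    rcases A (c' / d') with e | e | e | e
    · exact (div_ne_zero hc' hd' e).elim
    · rw [e]; exact h.delta one_ne_zero
    · rwa [e]
    · rwa [e]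
  simpa [hd'] using mul h3 (h.delta hd')

theorem le (h' : Std F')
    (hm : ∀ c d : K, c ≠ 0 → d ≠ 0 → Mor F ⊤ (dg c d) → Mor F' ⊤ (dg c d)) : F ≤ F' := by
  have A : ∀ f, Mor F ⊤ f → Mor F' ⊤ f := fun f hf => by
    obtain ⟨s, c, d, hc, hd, e⟩ := h.aut hf
    refine ((hm c d hc hd ((hf.conj_left (mem_top s)).congr fun x _ => e x)).conj_left
      (mem_top s⁻¹)).congr fun x _ => ?_
    rw [← e]; group
  have B : ∀ {β E π w w'}, Ch β E π → Sw F E π w → Sw F' E π w' → Ivt F E (ZS K) →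
      ∀ f, Au F E f → Mor F' E f := fun {β E π w w'} C hw hw' hZ f hf => by
    obtain ⟨g, hg, h1, h2 | ⟨s, h2⟩⟩ := C.bruhat h.sat hw hZ hf
    · exact ((A g hg).mono le_top).congr fun x hx => (h2 x hx).symm
    · refine ((((A g hg).mono le_top).comp' hw'.1.1 h1).conj_left (mem_top s)).congr fun x hx => ?_
      rw [h2 x hx, C.inj _ (hw.1.2 _ (h1 x hx)) _ (hw'.1.2 _ (h1 x hx))
        ((hw.2 _ (h1 x hx)).trans (hw'.2 _ (h1 x hx)).symm)]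
  refine le_iff_mor.2 (isSubsystemOf_iff.1 (alperin_sub pgroup h.sat ?_))
  rintro P (rfl | hP) α hα
  · exact A _ (au_ext le_rfl hα).1
  · rcases ess_two h.sat hP with rfl | rfl
    · exact h.w1.elim fun _ hw => h'.w1.elim fun _ hw' => B ch1 hw hw' h.z1 _ (au_ext le_top hα)
    · exact h.w2.elim fun _ hw => h'.w2.elim fun _ hw' => B ch2 hw hw' h.z2 _ (au_ext le_top hα)

end Std

/-- The graph automorphism. -/
noncomputable def gra : U K ≃* U K := MulEquiv.ofBijective (MonoidHom.mk'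
  (fun x => ⟨x.u, x.t ^ 2, x.b + x.t ^ 2 * x.u, x.a ^ 2 + x.t ^ 2 * x.u ^ 2⟩) fun x y => by
    have h2 := CharTwo.two_eq_zero (R := K)
    ext <;> simp only [U.mul_t, U.mul_u, U.mul_a, U.mul_b, CharTwo.add_sq, h2]
    · linear_combination x.t ^ 2 * y.u * h2
    · linear_combination x.t ^ 2 * y.u ^ 2 * h2 : U K →* U K)
  (Finite.injective_iff_bijective.1 ((injective_iff_map_eq_one _).2 fun x h => by
    have h1 : x.u = 0 := congrArg U.t h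
    have h2 : x.t ^ 2 = 0 := congrArg U.u h
    have h3 : x.b + x.t ^ 2 * x.u = 0 := congrArg U.a h
    have h4 : x.a ^ 2 + x.t ^ 2 * x.u ^ 2 = 0 := congrArg U.b h
    ext <;> simp_all))

theorem gra_apply (x : U K) :
    gra x = ⟨x.u, x.t ^ 2, x.b + x.t ^ 2 * x.u, x.a ^ 2 + x.t ^ 2 * x.u ^ 2⟩ := rfl

/-- The central automorphisms. -/
def cenAut (φ1 ψ1 φ2 ψ2 : K →+ K) : U K ≃* U K where
  toFun x := ⟨x.t, x.u, φ1 x.t + φ2 x.u + x.a, ψ1 x.t + ψ2 x.u + x.b⟩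
  invFun x := ⟨x.t, x.u, φ1 x.t + φ2 x.u + x.a, ψ1 x.t + ψ2 x.u + x.b⟩
  left_inv x := by ext <;> simp [← add_assoc, CharTwo.add_self_eq_zero]
  right_inv x := by ext <;> simp [← add_assoc, CharTwo.add_self_eq_zero]
  map_mul' x y := by ext <;> simp [CharTwo.two_eq_zero] <;> ring

theorem tr_cl {θ : U K ≃* U K} (h : IsFactor F ⊥ θ F') (e : ∀ x, θ x ∈ ZT K ↔ x ∈ ZT K)
    (hc : Cl F v) : Cl F' (θ v) := fun P f hf hv => by
  have := hc (P.comap θ.toMonoidHom) _ (tr_mor (tr_symm h) (fun y hy => by simpa using hy) hf) hv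
  simpa [← e (θ.symm _)] using this

theorem exists_std' (hF : F.IsSaturated 2) (h1 : ¬ Ivt F (QQ 0) (ZT K)) (h2 : ¬ Ivt F (AA K) (ZT K))
    (hc : Cl F v) (hv : v ∈ ZS K) (h0 : v ≠ 1) : ∃ (θ : U K ≃* U K) (F' : FusionSystem ⊤),
      IsFactor F ⊥ θ F' ∧ Std F' ∧ θ v ∈ ZS K := by
  have z1 := ch1.ivt hF h1 hc hv h0
  have z2 := ch2.ivt hF h2 hc hv h0
  obtain ⟨φ1, ψ1, f1, a1, e1⟩ := ch1.exists_sw hF h1 z1
  obtain ⟨φ2, ψ2, f2, a2, e2⟩ := ch2.exists_sw hF h2 z2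
  obtain ⟨F', h⟩ := exists_tr F (cenAut φ1 ψ1 φ2 ψ2)
  have m1 : ∀ x, cenAut φ1 ψ1 φ2 ψ2 x ∈ QQ (0 : K) ↔ x ∈ QQ (0 : K) := fun _ => Iff.rfl
  have m2 : ∀ x, cenAut φ1 ψ1 φ2 ψ2 x ∈ AA K ↔ x ∈ AA K := fun _ => Iff.rfl
  have m3 : ∀ x, cenAut φ1 ψ1 φ2 ψ2 x ∈ ZS K ↔ x ∈ ZS K := fun x =>
    and_congr_right fun h => and_congr_right fun h' => by
      simp only [cenAut, MulEquiv.coe_mk, Equiv.coe_fn_mk] at h h' ⊢; simp [h, h']
  refine ⟨_, F', h, ⟨h.iso_saturated pgroup hF, ⟨_, tr_au h m1 a1, fun x hx => ?_⟩,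
    ⟨_, tr_au h m2 a2, fun x hx => ?_⟩, (tr_ivt h m1 m3).2 z1, (tr_ivt h m2 m3).2 z2⟩, (m3 v).2 hv⟩
  · have h3 : x.u = 0 := by simpa [mem_QQ] using hx
    have h4 := e1 ((cenAut φ1 ψ1 φ2 ψ2).symm x) hx x.t x.a x.b (by simp [kap, cenAut, h3])
    have h5 := mem_QQ.1 (a1.2 ((cenAut φ1 ψ1 φ2 ψ2).symm x) hx)
    generalize f1 _ = y at h4 h5
    simp only [kap, Prod.mk.injEq] at h4
    simp [kap, sw, cenAut, h4, h5, ← add_assoc, CharTwo.add_self_eq_zero]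
  · have h4 := e2 ((cenAut φ1 ψ1 φ2 ψ2).symm x) hx x.u x.a x.b (by simp [kap, cenAut, mem_AA.1 hx])
    have h5 := mem_AA.1 (a2.2 ((cenAut φ1 ψ1 φ2 ψ2).symm x) hx)
    generalize f2 _ = y at h4 h5
    simp only [kap, Prod.mk.injEq] at h4
    simp [kap, sw, cenAut, h4, h5, ← add_assoc, CharTwo.add_self_eq_zero]

theorem exists_std (hF : F.IsSaturated 2) (h1 : ¬ Ivt F (QQ 0) (ZT K)) (h2 : ¬ Ivt F (AA K) (ZT K))
    (hc : Cl F v) (h0 : v ≠ 1) : ∃ (θ : U K ≃* U K) (F' : FusionSystem ⊤),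
      IsFactor F ⊥ θ F' ∧ Std F' ∧ θ v ∈ ZS K := by
  have hv : v ∈ ZT K := hc ⊤ id (Mor.id F le_rfl) trivial
  rcases ch1.inter hF h1 hc hv with h | h
  · exact exists_std' hF h1 h2 hc ⟨hv.1, hv.2, h⟩ h0
  obtain ⟨F', e⟩ := exists_tr F gra
  have m1 : ∀ x, gra x ∈ QQ (0 : K) ↔ x ∈ AA K := fun x => by simp [gra_apply, mem_QQ, mem_AA]
  have m2 : ∀ x, gra x ∈ AA K ↔ x ∈ QQ (0 : K) := fun x => by simp [gra_apply, mem_QQ, mem_AA]
  have m3 : ∀ x, gra x ∈ ZT K ↔ x ∈ ZT K := fun x => by simp [gra_apply, mem_ZT, and_comm]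
  obtain ⟨θ, F'', e', h3, h4⟩ := exists_std' (e.iso_saturated pgroup hF)
    (mt (tr_ivt e m1 m3).1 h2) (mt (tr_ivt e m2 m3).1 h1) (tr_cl e m3 hc)
    (by simp [gra_apply, mem_ZS, hv.1, hv.2, h]) (by simpa using h0)
  exact ⟨gra.trans θ, F'', e.iso_trans e', h3, h4⟩

end CfsgLib.ExSp4
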