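import Cfsg.Agent.Lib.ExSp4.TI
import Cfsg.Agent.Lib.BG.S1_2

/-! A finite group acting on `K³` whose Sylow subgroup acts as on binary quadratic forms and is
normalized by the full torus has no invariant subgroup inside the fixed points. -/

set_option autoImplicit false

namespace CfsgLib.ExSp4

open Subgroup CfsgLib.Fusion
open scoped Pointwise

variable {K : Type*} [Field K]

/-- The cubic action. -/
def tau (b : K) (v : K × K × K) : K × K × K :=
  (v.1, v.2.1 + b * v.1, v.2.2 + 2 * b * v.2.1 + b ^ 2 * v.1)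

/-- The fixed points. -/
def Z1 (K : Type*) [Field K] : AddSubgroup (K × K × K) where
  carrier := {v | v.1 = 0 ∧ v.2.1 = 0}
  zero_mem' := ⟨rfl, rfl⟩
  add_mem' := fun ha hb => ⟨by simp [ha.1, hb.1], by simp [ha.2, hb.2]⟩
  neg_mem' := fun ha => ⟨by simp [ha.1], by simp [ha.2]⟩

/-- The commutator space. -/
def Z2 (K : Type*) [Field K] : AddSubgroup (K × K × K) := (AddMonoidHom.fst K (K × K)).ker

theorem mem_Z1 {v : K × K × K} : v ∈ Z1 K ↔ v.1 = 0 ∧ v.2.1 = 0 := Iff.rfl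
theorem mem_Z2 {v : K × K × K} : v ∈ Z2 K ↔ v.1 = 0 := Iff.rfl
theorem Z1_le : Z1 K ≤ Z2 K := fun _ h => h.1

theorem sm_sup {H W : Type*} [Group H] [AddCommGroup W] [DistribMulAction H W] (g : H)
    (Y Z : AddSubgroup W) : g • (Y ⊔ Z) = g • Y ⊔ g • Z := AddSubgroup.map_sup _ _ _

theorem card_Z1 : Nat.card (Z1 K) = Nat.card K := Nat.card_congr
  { toFun := fun v => v.1.2.2
    invFun := fun c => ⟨(0, 0, c), rfl, rfl⟩
    left_inv := fun v => Subtype.ext (Prod.ext v.2.1.symm (Prod.ext v.2.2.symm rfl))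
    right_inv := fun _ => rfl }

variable {H : Type*} [Group H] [DistribMulAction H (K × K × K)] {p : ℕ} {T : Subgroup H}
  {g h k t r : H} {v y : K × K × K} {a b : K}

/-- `T` acts as the group of the `tau b`. -/
structure Cub (K : Type*) [Field K] [DistribMulAction H (K × K × K)] (p : ℕ) (T : Subgroup H) :
    Prop where
  syl : SylIn p T ⊤
  two : (2 : K) ≠ 0
  of_mem : ∀ t ∈ T, ∃ b : K, ∀ v, t • v = tau b v
  ex : ∀ b : K, ∃ t ∈ T, ∀ v, t • v = tau b v

/-- `r` acts on the factors of the flag as `a², a, 1`. -/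
structure Dg (a : K) (r : H) : Prop where
  fix : ∀ v ∈ Z1 K, r • v = v
  one : ∀ v : K × K × K, (r • v).1 = a ^ 2 * v.1
  two : ∀ v : K × K × K, v.1 = 0 → (r • v).2.1 = a * v.2.1

theorem Dg.mul {s : H} (h1 : Dg a r) (h2 : Dg b s) : Dg (a * b) (r * s) :=
  ⟨fun v hv => by rw [mul_smul, h2.fix v hv, h1.fix v hv],
    fun v => by rw [mul_smul, h1.one, h2.one]; ring,
    fun v hv => by rw [mul_smul, h1.two _ (by rw [h2.one, hv, mul_zero]), h2.two v hv]; ring⟩

theorem Dg.pow (h : Dg a r) (n : ℕ) : Dg (a ^ n) (r ^ n) := by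
  induction n with
  | zero => exact ⟨by simp, by simp, by simp⟩
  | succ n ih => rw [pow_succ, pow_succ]; exact ih.mul h

theorem dg_tau (h : ∀ v, t • v = tau b v) : Dg (1 : K) t :=
  ⟨fun v hv => by rw [h]; ext <;> simp [tau, hv.1, hv.2], fun v => by simp [h, tau],
    fun v hv => by simp [h, tau, hv]⟩

variable [Finite K]

theorem Dg.Z1 (h : Dg a r) : r • Z1 K = Z1 K := sm_eq_of_mem fun v hv => by rwa [h.fix v hv]

theorem Dg.Z2 (h : Dg a r) : r • Z2 K = Z2 K :=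
  sm_eq_of_mem fun v hv => by rw [mem_Z2, h.one, mem_Z2.1 hv, mul_zero]

theorem Dg.mem_flag (h : Dg (1 : K) r) : r ∈ flag H (ExSp4.Z1 K) (ExSp4.Z2 K) :=
  ⟨h.fix, fun v hv => ⟨by simp [h.one], by simp [h.two v hv]⟩, h.Z2, fun v => by
    simp [mem_Z2, h.one]⟩

variable [CharP K p] [FaithfulSMul H (K × K × K)] (C : Cub K p T)
include C

namespace Cub

theorem flag_eq : flag H (Z1 K) (Z2 K) = T :=
  ExSp4.flag_eq C.syl Z1_le (fun v _ => by ext <;> simp) fun t ht =>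
    (C.of_mem t ht).elim fun _ h => (dg_tau h).mem_flag

omit [Finite K] [CharP K p] C in
theorem eq_one (h : ∀ v, t • v = tau (0 : K) v) : t = 1 :=
  FaithfulSMul.eq_of_smul_eq_smul (α := K × K × K) fun v => by rw [h]; ext <;> simp [tau]

omit [Finite K] [CharP K p] in
theorem fix_mem (ht : t ∈ T) (h1 : t ≠ 1) (hv : t • v = v) : v ∈ Z1 K := by
  obtain ⟨b, hb⟩ := C.of_mem t ht
  have h0 : b ≠ 0 := fun e => h1 (eq_one (e ▸ hb))
  rw [hb] at hv
  have e1 : v.1 = 0 := by simpa [tau, h0] using congrArg (·.2.1) hv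
  exact ⟨e1, by simpa [tau, h0, e1, C.two] using congrArg (·.2.2) hv⟩

omit [Finite K] in
theorem pow_eq (ht : t ∈ T) (hp : Odd p) : t ^ p = 1 := by
  obtain ⟨b, hb⟩ := C.of_mem t ht
  have : ∀ n : ℕ, ∀ v, t ^ n • v = tau (n * b) v := fun n => by
    induction n with
    | zero => intro v; ext <;> simp [tau]
    | succ n ih => intro v; rw [pow_succ, mul_smul, hb, ih]; ext <;> simp [tau] <;> ring
  exact eq_one (by simpa using this p)

omit [Finite K] [CharP K p] in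
theorem comm : IsMulCommutative T := ⟨⟨fun a b => Subtype.ext (by
  obtain ⟨x, hx⟩ := C.of_mem _ a.2
  obtain ⟨y, hy⟩ := C.of_mem _ b.2
  refine FaithfulSMul.eq_of_smul_eq_smul (α := K × K × K) fun v => ?_
  simp only [coe_mul, mul_smul, hx, hy]
  ext <;> simp [tau] <;> ring)⟩⟩

omit [CharP K p] in
theorem sm_of_conj (ht : t ∈ T) (h1 : t ≠ 1) (h2 : g * t * g⁻¹ ∈ T) :
    g • Z1 K = Z1 K ∧ g • Z2 K = Z2 K := by
  obtain ⟨b, hb⟩ := C.of_mem t ht
  obtain ⟨c, hc⟩ := C.of_mem _ h2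
  have h0 : b ≠ 0 := fun e => h1 (eq_one (e ▸ hb))
  refine ⟨sm_eq_of_mem fun v hv => C.fix_mem h2 (by simpa using h1) (by
    rw [mul_smul, mul_smul, inv_smul_smul, (dg_tau hb).fix v hv]), sm_eq_of_mem fun v hv => ?_⟩
  have e : v = t • (v.2.1 / b, (v.2.2 - b * v.2.1) / (2 * b), (0 : K)) -
      (v.2.1 / b, (v.2.2 - b * v.2.1) / (2 * b), (0 : K)) := by
    have := C.two
    rw [hb]; ext <;> simp [tau, mem_Z2.1 hv] <;> field_simp <;> ring
  have := (dg_tau hc).one (g • (v.2.1 / b, (v.2.2 - b * v.2.1) / (2 * b), (0 : K)))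
  rw [mul_smul, mul_smul, inv_smul_smul] at this
  rw [e, smul_sub, mem_Z2, Prod.fst_sub, this]; ring

theorem norm_of_conj (ht : t ∈ T) (h1 : t ≠ 1) (h2 : g * t * g⁻¹ ∈ T) :
    g ∈ normalizer (T : Set H) :=
  C.flag_eq ▸ mem_normalizer_flag (C.sm_of_conj ht h1 h2).1 (C.sm_of_conj ht h1 h2).2

omit [CharP K p] in
theorem sm_of_norm (hg : g ∈ normalizer (T : Set H)) : g • Z1 K = Z1 K ∧ g • Z2 K = Z2 K := by
  obtain ⟨t, ht, e⟩ := C.ex 1
  refine C.sm_of_conj ht (fun h => ?_) ((mem_normalizer_iff.1 hg t).1 ht)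
  simpa [h, tau] using congrArg (·.2.1) (e (1, 0, 0))

omit [CharP K p] in
theorem exists_dg (hg : g ∈ normalizer (T : Set H)) (hf : ∀ v ∈ Z1 K, g • v = v) :
    ∃ a : K, Dg a g := by
  have h2 : ∀ v : K × K × K, v.1 = 0 → (g • v).1 = 0 := fun v hv =>
    mem_of_sm_eq (C.sm_of_norm hg).2 hv
  have A : ∀ b : K, ∃ c : K, ∀ v, g • tau b v = tau c (g • v) := fun b => by
    obtain ⟨t, ht, e⟩ := C.ex b
    obtain ⟨c, hc⟩ := C.of_mem _ ((mem_normalizer_iff.1 hg t).1 ht)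
    exact ⟨c, fun v => by rw [← hc, mul_smul, mul_smul, inv_smul_smul, e]⟩
  obtain ⟨c, hc⟩ := A 1
  have B : ∀ v : K × K × K, v.1 = 0 → c * (g • v).2.1 = v.2.1 := fun v hv => by
    have e : tau 1 v = v + (0, 0, 2 * v.2.1) := by ext <;> simp [tau, hv]
    have := congrArg (·.2.2) (hc v)
    rw [e, smul_add, hf (0, 0, 2 * v.2.1) ⟨rfl, rfl⟩] at this
    simp only [tau, h2 v hv, Prod.snd_add] at this
    exact mul_left_cancel₀ C.two (by linear_combination -this)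
  have h0 : c ≠ 0 := fun e => by simpa [e] using B (0, 1, 0) rfl
  refine ⟨c⁻¹, hf, fun v => ?_, fun v hv => by rw [← B v hv]; field_simp⟩
  have e : tau 1 v = v + (0, v.1, 2 * v.2.1 + v.1) := by ext <;> simp [tau]; ring
  have h3 := congrArg (·.2.1) (hc v)
  have h4 := B (0, v.1, 2 * v.2.1 + v.1) rfl
  rw [e, smul_add] at h3
  simp only [tau, Prod.snd_add, Prod.fst_add] at h3 h4
  field_simp
  linear_combination h4 - c * h3

theorem exists_inv (hr : Dg (-1 : K) r) (hv : v.1 ≠ 0) :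
    ∃ t ∈ T, Dg (-1 : K) (t * r) ∧ (t * r) • v = v := by
  obtain ⟨t, ht, e⟩ := C.ex ((v.2.1 - (r • v).2.1) / v.1)
  have h1 : Dg (-1 : K) (t * r) := by simpa using (dg_tau e).mul hr
  refine ⟨t, ht, h1, ?_⟩
  have h2 : (t * r) • v - v ∈ Z1 K := ⟨by simp [h1.one], by
    simp only [mul_smul, e, tau, Prod.snd_sub, Prod.fst_sub, hr.one]; field_simp; ring⟩
  obtain ⟨b, hb⟩ := C.of_mem (t * r * (t * r)) (C.flag_eq ▸ Dg.mem_flag (by simpa using h1.mul h1))
  generalize t * r = j at *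
  have h3 : tau b v = v + (j • v - v) + (j • v - v) := by
    have := h1.fix _ h2
    rw [smul_sub, sub_eq_iff_eq_add] at this
    rw [← hb, mul_smul, this]; abel
  generalize hz : j • v - v = z at h2 h3
  have h4 : b = 0 := by simpa [tau, h2.2, hv] using congrArg (·.2.1) h3
  have h5 : z.2.2 = 0 := by
    have := congrArg (·.2.2) h3
    simp only [tau, h4, Prod.snd_add] at this
    exact mul_left_cancel₀ C.two (by linear_combination -this)
  rw [← sub_eq_zero, hz]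
  exact Prod.ext h2.1 (Prod.ext h2.2 h5)

variable [hp : Fact p.Prime] [Finite H]

omit [Finite K] [CharP K p] [FaithfulSMul H (K × K × K)] [Finite H] hp in
theorem exists_move (hy : y ∈ Z2 K) (hy' : y ∉ Z1 K) {d : K × K × K} (hd : d ∈ Z1 K) :
    ∃ t ∈ T, t • y - y = d := by
  have h0 : y.2.1 ≠ 0 := fun e => hy' ⟨hy, e⟩
  obtain ⟨t, ht, e⟩ := C.ex (d.2.2 / (2 * y.2.1))
  have := C.two
  refine ⟨t, ht, ?_⟩
  rw [e]; ext <;> simp [tau, mem_Z2.1 hy, hd.1, hd.2]; field_simp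

omit [Finite H] in
theorem odd : Odd p := hp.out.odd_of_ne_two fun e => C.two (by
  simpa [e] using CharP.cast_eq_zero K p)

theorem card_le {D : AddSubgroup (K × K × K)} (hD : D ≤ Z1 K) (hD' : D ≤ g • Z1 K)
    (hy : y ∈ Z2 K) (hy' : y ∉ Z1 K) (gy : y ∈ g • Z2 K) (gy' : y ∉ g • Z1 K)
    (hg : g ∉ normalizer (T : Set H)) (hf : ∀ h : H, D ≤ h • Z1 K → y ∉ h • Z1 K) :
    Nat.card D ≤ p := by
  let St : Subgroup H :=
    { carrier := {h | (∀ d ∈ D, h • d = d) ∧ h • y - y ∈ D}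
      one_mem' := by simp
      mul_mem' := fun {a b} ha hb => ⟨fun d hd => by rw [mul_smul, hb.1 d hd, ha.1 d hd], by
        have := D.add_mem hb.2 ha.2
        rwa [← ha.1 _ hb.2, smul_sub, sub_add_sub_cancel, ← mul_smul] at this⟩
      inv_mem' := fun {a} ha => ⟨fun d hd => by rw [inv_smul_eq_iff, ha.1 d hd], by
        have := D.neg_mem ha.2
        rwa [← inv_smul_eq_iff.2 (ha.1 _ this).symm, neg_sub, smul_sub, inv_smul_smul] at this⟩ }
  let N := St ⊓ MulAction.stabilizer H y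
  have fx : ∀ t ∈ T, ∀ d ∈ Z1 K, t • d = d := fun t ht => (C.of_mem t ht).elim fun _ e => (dg_tau e).fix
  have ex : ∀ d ∈ D, ∃ t ∈ T ⊓ St, t • y - y = d := fun d hd =>
    (C.exists_move hy hy' (hD hd)).elim fun t h =>
      ⟨t, ⟨h.1, fun e he => fx t h.1 e (hD he), h.2 ▸ hd⟩, h.2⟩
  by_cases hc : IsCyclic (T ⊓ St : Subgroup H)
  · choose f hf1 hf2 using ex
    refine (Nat.card_le_card_of_injective (fun d : D => (⟨f d.1 d.2, hf1 _ _⟩ : (T ⊓ St : Subgroup H)))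
      fun a b e => Subtype.ext ?_).trans ?_
    · rw [← hf2 a.1 a.2, ← hf2 b.1 b.2, show f a.1 a.2 = f b.1 b.2 from congrArg Subtype.val e]
    · rw [← IsCyclic.exponent_eq_card]
      exact Nat.le_of_dvd hp.out.pos (Monoid.exponent_dvd_of_forall_pow_eq_one fun x =>
        Subtype.ext (C.pow_eq x.2.1 C.odd))
  have nN : St ≤ normalizer (N : Set H) := by
    have key : ∀ s ∈ St, ∀ x ∈ N, s * x * s⁻¹ ∈ N := fun s hs x hx => ⟨St.mul_mem (St.mul_mem hs hx.1)
      (St.inv_mem hs), by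
        have := hx.1.1 _ (St.inv_mem hs).2
        rw [smul_sub, show x • y = y from hx.2, sub_left_inj] at this
        change (s * x * s⁻¹) • y = y
        rw [mul_smul, mul_smul, this, smul_inv_smul]⟩
    exact fun s hs => mem_normalizer_iff.2 fun x => ⟨key s hs x, fun hx => by
      simpa [mul_assoc] using key _ (St.inv_mem hs) _ hx⟩
  have cop : (Nat.card N).Coprime (Nat.card (T ⊓ St : Subgroup H)) := by
    obtain ⟨n, hn⟩ := (C.syl.isPGroup.to_le (inf_le_left (b := St))).exists_card_eq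
    rw [hn]
    refine (hp.out.coprime_iff_not_dvd.2 fun hd => ?_).symm.pow_right n
    obtain ⟨⟨k, hk⟩, ho⟩ := exists_prime_orderOf_dvd_card' p hd
    have h1 : orderOf k = p := by rw [← ho, Subgroup.orderOf_mk]
    obtain ⟨x, -, hx⟩ := C.syl.exists_conj (U := zpowers k)
      (IsPGroup.of_card (n := 1) (by rw [Nat.card_zpowers, h1, pow_one])) le_top
    have h2 : ∀ v : K × K × K, k • v = v → v ∈ x⁻¹ • Z1 K := fun v hv => by
      rw [mem_sm, inv_inv]
      refine C.fix_mem (hx k (mem_zpowers k)) (fun e => hp.out.one_lt.ne ?_) ?_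
      · rw [← h1, show k = 1 by simpa using e, orderOf_one]
      · rw [mul_smul, mul_smul, inv_smul_smul, hv]
    exact hf x⁻¹ (fun d hd => h2 d (hk.1.1 d hd)) (h2 y hk.2)
  have := C.comm
  have h1 : N ≤ normalizer (T : Set H) := BG.coprime_abelian_gen_cent1_le (A := T ⊓ St)
    ⟨⟨fun a b => Subtype.ext (congrArg (Subtype.val : T → H)
      (mul_comm' (⟨a.1, a.2.1⟩ : T) ⟨b.1, b.2.1⟩))⟩⟩ hc
    (inf_le_right.trans nN) cop fun a ha h1 x hx => C.norm_of_conj ha.1 h1 (by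
      rw [mem_centralizer_singleton_iff.1 hx.2, mul_inv_cancel_right]; exact ha.1)
  have h2 : St ≤ normalizer (T : Set H) := fun s hs => by
    obtain ⟨t, ht, e⟩ := ex _ hs.2
    have : t⁻¹ * s ∈ N := ⟨St.mul_mem (St.inv_mem ht.2) hs, by
      change (t⁻¹ * s) • y = y
      rw [mul_smul, inv_smul_eq_iff, ← sub_left_inj.1 e]⟩
    simpa using (normalizer (T : Set H)).mul_mem (le_normalizer ht.1) (h1 this)
  refine le_trans ((AddSubgroup.card_le_one_iff_eq_bot _).2 ((AddSubgroup.eq_bot_iff_forall _).2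
    fun d hd => ?_)) hp.out.pos
  obtain ⟨t, ht, e⟩ := C.exists_move (mem_sm.1 gy) (mem_sm.not.1 gy') (mem_sm.1 (hD' hd))
  have h3 : (g * t * g⁻¹) • y - y = d := by
    rw [mul_smul, mul_smul, ← smul_inv_smul g d, ← e, smul_sub, smul_inv_smul]
  have h4 : g * t * g⁻¹ ∈ T := mem_of_norm C.syl (h2 ⟨fun x hx => by
    rw [mul_smul, mul_smul, fx t ht _ (mem_sm.1 (hD' hx)), smul_inv_smul], h3 ▸ hd⟩)
    (by have := pg_conj C.syl.isPGroup ht g⁻¹; rwa [inv_inv] at this)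
  by_contra h0
  refine hg (C.norm_of_conj ht (fun e => h0 ?_) h4)
  rw [← h3, e]; simp

theorem Z2_eq (hg : g • Z1 K = Z1 K) (hy : y ∈ Z2 K) (hy' : y ∉ Z1 K) (gy : y ∈ g • Z2 K) :
    g • Z2 K = Z2 K := by
  by_cases hn : g ∈ normalizer (T : Set H)
  · exact (C.sm_of_norm hn).2
  have h1 := C.card_le le_rfl hg.ge hy hy' gy (by rwa [hg]) hn fun h hh => by
    rwa [← AddSubgroup.eq_of_le_of_card_ge hh (card_sm h _).le]
  rw [card_Z1] at h1
  have hb := ((Nat.bijective_iff_injective_and_card (ZMod.castHom (dvd_refl p) K)).2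
    ⟨(ZMod.castHom (dvd_refl p) K).injective, le_antisymm (Nat.card_le_card_of_injective _
      (ZMod.castHom (dvd_refl p) K).injective) (by rwa [Nat.card_zmod])⟩).2
  refine (AddSubgroup.eq_of_le_of_card_ge (fun v hv => ?_) (card_sm g _).le).symm
  obtain ⟨n, hn⟩ := hb (v.2.1 / y.2.1)
  have h0 : y.2.1 ≠ 0 := fun e => hy' ⟨hy, e⟩
  have h2 : v - n.val • y ∈ g • Z1 K := by
    rw [hg]
    refine ⟨by simp [mem_Z2.1 hy, mem_Z2.1 hv], ?_⟩
    rw [ZMod.castHom_apply, ZMod.cast_eq_val] at hn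
    rw [Prod.snd_sub, Prod.fst_sub, Prod.smul_snd, Prod.smul_fst, nsmul_eq_mul, hn,
      div_mul_cancel₀ _ h0, sub_self]
  simpa using (g • Z2 K).add_mem (mem_sm.2 (Z1_le (mem_sm.1 h2))) ((g • Z2 K).nsmul_mem gy n.val)

theorem ti (hr : Dg (-1 : K) r) : TI p T (Z1 K) := by
  refine ⟨C.syl, fun t ht => (C.of_mem t ht).elim fun _ e => (dg_tau e).fix,
    fun t ht h1 v => C.fix_mem ht h1, fun g hg => ?_⟩
  by_contra hn
  have h1 : g • Z2 K ≠ Z2 K := fun e => hn (C.flag_eq ▸ mem_normalizer_flag hg e)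
  obtain ⟨v, hv, hv'⟩ := exists_not_mem (card_sm g _) h1
  obtain ⟨t, -, hj, e⟩ := C.exists_inv hr hv'
  generalize t * r = j at hj e
  have h2 : (g⁻¹ * j * g) • Z1 K = Z1 K := by rw [mul_smul, mul_smul, hg, hj.Z1, inv_sm_eq hg]
  have h3 : (g⁻¹ * j * g) • g⁻¹ • v = g⁻¹ • v := by rw [mul_smul, smul_inv_smul, mul_smul, e]
  have h4 : g⁻¹ • v ∉ Z1 K := fun h => hv' (Z1_le (hg ▸ mem_sm.2 h))
  have h5 := C.Z2_eq h2 (mem_sm.1 hv) h4 (h3 ▸ sm_mem_sm.2 (mem_sm.1 hv))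
  obtain ⟨a, ha⟩ := C.exists_dg (C.flag_eq ▸ mem_normalizer_flag h2 h5) fun z hz => by
    rw [mul_smul, mul_smul, hj.fix _ (mem_of_sm_eq hg hz), inv_smul_smul]
  obtain rfl : a = 1 := by
    have := ha.two _ (mem_sm.1 hv)
    rw [h3] at this
    exact mul_right_cancel₀ (fun e => h4 ⟨mem_sm.1 hv, e⟩) (this.symm.trans (one_mul _).symm)
  have h6 := C.pow_eq (C.flag_eq ▸ ha.mem_flag) C.odd
  have h7 : j ^ p = 1 := by
    have := conj_pow (i := p) (a := g⁻¹) (b := j)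
    rw [inv_inv, h6] at this
    have h8 := conj_eq_one_iff (a := g⁻¹) (b := j ^ p)
    rw [inv_inv, ← this] at h8
    exact h8.1 rfl
  have := (hj.pow p).two (0, 1, 0) rfl
  rw [h7, C.odd.neg_one_pow] at this
  exact C.two (by simp only [one_smul] at this; linear_combination this)

theorem inter (J : TI p T (Z1 K)) {m : ℕ} (M : MaxI H (Z1 K) m) (h1 : 1 < m)
    (hg : g • Z1 K ≠ Z1 K) (hm : Nat.card (Z1 K ⊓ g • Z1 K : AddSubgroup _) = m)
    (hv : v ∈ g • Z1 K) (hv' : v ∈ Z2 K) : v ∈ Z1 K := by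
  by_contra h
  rw [← hm, AddSubgroup.one_lt_card_iff_ne_bot, Ne, AddSubgroup.eq_bot_iff_forall] at h1
  refine h1 fun d hd => ?_
  obtain ⟨t, ht, e⟩ := C.exists_move hv' h hd.1
  rw [← e, J.key (hm ▸ M) hg ht hv h (e ▸ hd), one_smul, sub_self]

omit C [Finite K] [CharP K p] [FaithfulSMul H (K × K × K)] [Finite H] hp in
theorem mx_symm {m : ℕ} (hg : g • Z1 K ≠ Z1 K)
    (hm : Nat.card (Z1 K ⊓ g • Z1 K : AddSubgroup _) = m) :
    g⁻¹ • Z1 K ≠ Z1 K ∧ Nat.card (Z1 K ⊓ g⁻¹ • Z1 K : AddSubgroup _) = m :=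
  ⟨fun e => hg (by simpa using inv_sm_eq e), by
    rw [← card_sm g, sm_inf, smul_inv_smul, inf_comm, hm]⟩

theorem split (hr : Dg (-1 : K) r) {m : ℕ} (M : MaxI H (Z1 K) m) (h1 : 1 < m)
    (hg : g • Z1 K ≠ Z1 K) (hm : Nat.card (Z1 K ⊓ g • Z1 K : AddSubgroup _) = m)
    (hy : y ∈ Z2 K) : ∃ z ∈ Z1 K, y - z ∈ g • Z2 K := by
  have J := C.ti hr
  have A : ∀ v ∈ g • Z1 K, v ∉ Z1 K → ∃ t ∈ T, Dg (-1 : K) (t * r) ∧ (t * r) • v = v ∧
      (t * r) • g • Z1 K = g • Z1 K := fun v hv hv' => by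
    obtain ⟨t, ht, hj, e⟩ := C.exists_inv hr fun h => hv' (C.inter J M h1 hg hm hv h)
    refine ⟨t, ht, hj, e, ?_⟩
    rw [← mul_smul]
    refine M.eq hm (fun d hd => ?_) inf_le_right (by
      rw [mul_smul, ← e]; exact sm_mem_sm.2 hv) hv fun h => hv' h.1
    rw [mul_smul, ← hj.fix d hd.1]; exact sm_mem_sm.2 hd.2
  obtain ⟨v, hv, hv'⟩ := exists_not_mem (card_sm g _) hg
  obtain ⟨t, ht, hj, -, e⟩ := A v hv hv'
  have B : ∀ w ∈ g • Z1 K, (t * r) • w = w := fun w hw => by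
    by_cases hw' : w ∈ Z1 K
    · exact hj.fix w hw'
    obtain ⟨s, hs, -, e1, e2⟩ := A w hw hw'
    have := J.stab (T.mul_mem ht (T.inv_mem hs)) (g := g) (by
      rw [show t * s⁻¹ = t * r * (s * r)⁻¹ by group, mul_smul, inv_sm_eq e2, e]) hg
    rwa [mul_inv_eq_one.1 this]
  generalize t * r = j at hj e B
  obtain ⟨a, ha⟩ := C.exists_dg (J.nrm (g⁻¹ * j * g) (by rw [mul_smul, mul_smul, e, inv_smul_smul]))
    fun z hz => by rw [mul_smul, mul_smul, B _ (sm_mem_sm.2 hz), inv_smul_smul]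
  obtain ⟨g1, g2⟩ := mx_symm hg hm
  obtain ⟨w, hw, hw'⟩ := exists_not_mem (card_sm g⁻¹ _) g1
  have h2 : a ^ 2 = 1 := by
    have := ha.one w
    rw [mul_smul, mul_smul, hj.fix _ (by simpa using mem_sm.1 hw), inv_smul_smul] at this
    exact mul_right_cancel₀ (fun e => hw' (C.inter J M h1 g1 g2 hw e))
      (this.symm.trans (one_mul _).symm)
  have := C.two
  refine ⟨(2⁻¹ : K) • y + j • (2⁻¹ : K) • y, ⟨by simp [hj.one, mem_Z2.1 hy], by
    simp [hj.two ((2⁻¹ : K) • y) (by simp [mem_Z2.1 hy])]⟩, ?_⟩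
  have h3 : y = (2⁻¹ : K) • y + (2⁻¹ : K) • y := by
    rw [← add_smul, ← two_mul, mul_inv_cancel₀ this, one_smul]
  generalize (2⁻¹ : K) • y = u at h3
  have h4 := ha.one (g⁻¹ • u)
  rw [mul_smul, smul_inv_smul, mul_smul, h2, one_mul] at h4
  rw [h3, mem_sm, mem_Z2, add_sub_add_left_eq_sub, smul_sub, Prod.fst_sub, h4, sub_self]

theorem sup_eq (hr : Dg (-1 : K) r) {m : ℕ} (M : MaxI H (Z1 K) m) (h1 : 1 < m)
    (hg : g • Z1 K ≠ Z1 K) (hm : Nat.card (Z1 K ⊓ g • Z1 K : AddSubgroup _) = m) :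
    Z2 K ⊔ g • Z2 K = ((g • Z1 K).map (AddMonoidHom.fst K (K × K))).comap (AddMonoidHom.fst K _) ∧
      ((g • Z1 K).map (AddMonoidHom.fst K (K × K))).index = m := by
  refine ⟨le_antisymm (sup_le (fun v hv => ⟨0, zero_mem _, (mem_Z2.1 hv).symm⟩) fun v hv => ?_)
    fun v ⟨w, hw, e⟩ => ?_, ?_⟩
  · obtain ⟨g1, g2⟩ := mx_symm hg hm
    obtain ⟨z, hz, e⟩ := C.split hr M h1 g1 g2 (mem_sm.1 hv)
    rw [mem_sm, inv_inv, smul_sub, smul_inv_smul, mem_Z2, Prod.fst_sub, sub_eq_zero] at e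
    exact ⟨_, sm_mem_sm.2 hz, e.symm⟩
  · have := AddSubgroup.add_mem_sup (S := Z2 K) (T := g • Z2 K) (x := v - w)
      (by simpa [mem_Z2, sub_eq_zero] using e.symm) (mem_sm.2 (Z1_le (mem_sm.1 hw)))
    simpa using this
  · have e : Z1 K ⊓ g • Z1 K = Z2 K ⊓ g • Z1 K := le_antisymm (inf_le_inf_right _ Z1_le)
      fun v hv => ⟨C.inter (C.ti hr) M h1 hg hm hv.2 hv.1, hv.2⟩
    have h2 := ((g • Z1 K).map (AddMonoidHom.fst K (K × K))).card_mul_index
    have h3 := ((Z2 K).addSubgroupOf (g • Z1 K)).card_mul_index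
    rw [← AddSubgroup.relIndex, Z2, AddSubgroup.relIndex_ker, card_sm, card_Z1, ← h2, mul_comm,
      ← AddSubgroup.inf_addSubgroupOf_right, Nat.card_congr
      (AddSubgroup.addSubgroupOfEquivOfLe inf_le_right).toEquiv, ← Z2, ← e, hm] at h3
    exact (Nat.eq_of_mul_eq_mul_left Nat.card_pos h3).symm

theorem index_sup (hr : Dg (-1 : K) r) {m : ℕ} (M : MaxI H (Z1 K) m) (h1 : 1 < m)
    {D : AddSubgroup (K × K × K)} (hD : Nat.card D = m) (hh : D ≤ h • Z1 K) (hk : D ≤ k • Z1 K)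
    (hne : h • Z1 K ≠ k • Z1 K) : (h • Z2 K ⊔ k • Z2 K).index = m := by
  have e1 : (h⁻¹ * k) • Z1 K ≠ Z1 K := fun e => hne (by
    rw [mul_smul, inv_smul_eq_iff] at e; exact e.symm)
  have e2 : Nat.card (Z1 K ⊓ (h⁻¹ * k) • Z1 K : AddSubgroup _) = m := by
    rw [← card_sm h, sm_inf, mul_smul, smul_inv_smul]
    exact le_antisymm (M h k hne) (hD ▸ AddSubgroup.card_le_of_le (le_inf hh hk))
  obtain ⟨e3, e4⟩ := C.sup_eq hr M h1 e1 e2
  rw [← AddSubgroup.index_comap_of_surjective _ (f := AddMonoidHom.fst K (K × K))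
    Prod.fst_surjective, ← e3] at e4
  have h2 := (h • Z2 K ⊔ k • Z2 K).card_mul_index
  have h3 := (Z2 K ⊔ (h⁻¹ * k) • Z2 K).card_mul_index
  rw [e4, ← card_sm h, sm_sup, mul_smul, smul_inv_smul, ← h2] at h3
  exact (Nat.eq_of_mul_eq_mul_left Nat.card_pos h3).symm

theorem main (hr : ∀ a : K, a ≠ 0 → ∃ r : H, Dg a r) (hv : v ≠ 0) (hz : ∀ g : H, g • v ∈ Z1 K)
    (g : H) : g • Z1 K = Z1 K := by
  by_contra hg
  obtain ⟨g, hg, M⟩ := exists_maxI hg
  obtain ⟨j, hj⟩ := hr (-1) (by simp)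
  have J := C.ti hj
  set D := Z1 K ⊓ g • Z1 K with hD
  have h1 : 1 < Nat.card D := (AddSubgroup.one_lt_card_iff_ne_bot _).2 fun e => hv
    ((AddSubgroup.eq_bot_iff_forall _).1 e v ⟨by simpa using hz 1, mem_sm.2 (hz _)⟩)
  obtain ⟨e1, e2⟩ := C.sup_eq hj M h1 hg rfl
  set P := (g • Z1 K).map (AddMonoidHom.fst K (K × K))
  have hm : Nat.card D = p := by
    obtain ⟨z, hz, e⟩ := C.split hj M h1 hg rfl (y := (0, 1, 0)) rfl
    have h2 : ((0, 1, 0) : K × K × K) - z ∈ Z2 K := by simp [mem_Z2, hz.1]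
    have h3 : ((0, 1, 0) : K × K × K) - z ∉ Z1 K := fun h => by simpa [hz.2] using h.2
    have h4 := C.card_le (D := D) inf_le_left inf_le_right h2 h3 e
      (fun h => h3 (C.inter J M h1 hg rfl h h2)) (fun h => hg (C.sm_of_norm h).1) fun h hh hy => by
        have h5 : h • Z1 K ≠ Z1 K := fun e => h3 (e ▸ hy)
        refine h3 (C.inter J M h1 h5 (le_antisymm ?_ (AddSubgroup.card_le_of_le
          (le_inf inf_le_left hh))) hy h2)
        simpa using M 1 h (by simpa using h5.symm)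
    have := Fintype.ofFinite K
    obtain ⟨n, -, hn⟩ := FiniteField.card K p
    obtain ⟨i, -, hi⟩ := (Nat.dvd_prime_pow hp.out).1 (by
      rw [← hn, ← Nat.card_eq_fintype_card, ← e2]; exact P.index_dvd_card : Nat.card D ∣ p ^ (n : ℕ))
    refine le_antisymm h4 (Nat.le_of_dvd Nat.card_pos (hi ▸ dvd_pow_self p fun e => ?_))
    simp [hi, e] at h1
  obtain ⟨a, ha, x, hx, hax⟩ : ∃ a : K, a ≠ 0 ∧ ∃ x ∈ g • Z1 K, a ^ 2 * x.1 ∉ P := by
    by_contra! hn
    obtain ⟨x, hx, hx'⟩ := exists_not_mem (card_sm g _) hg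
    have h0 : x.1 ≠ 0 := fun e => hx' (C.inter J M h1 hg rfl hx e)
    have h2 : ∀ a : K, a ^ 2 * x.1 ∈ P := fun a => by
      by_cases ha : a = 0
      · simp [ha]
      · exact hn a ha x hx
    have h3 : P = ⊤ := (AddSubgroup.eq_top_iff' P).2 fun c => by
      have := C.two
      convert P.sub_mem (h2 ((c / x.1 + 1) / 2)) (h2 ((c / x.1 - 1) / 2)) using 1
      have h4 : (4 : K) ≠ 0 := by rw [show (4 : K) = 2 * 2 by norm_num]; exact mul_ne_zero this this
      field_simp; ring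
    rw [h3, AddSubgroup.index_top] at e2
    exact h1.ne e2
  obtain ⟨r, hr⟩ := hr a ha
  choose s hs es using C.ex
  let u : Option K → H := fun o => o.elim 1 fun b => s b * g
  set M0 := P.comap (AddMonoidHom.fst K (K × K))
  have i0 : M0.index = p := by rw [← e1, ← hm, ← C.index_sup hj M h1 (h := 1) (k := g) rfl
    (by simp [hD]) inf_le_right (by simpa using Ne.symm hg), one_smul]
  have u1 : ∀ o, D ≤ u o • Z1 K := fun o d hd => by
    cases o with
    | none => simpa [u] using hd.1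
    | some b =>
      simp only [u, Option.elim, mul_smul]
      rw [← J.fix _ (hs b) d hd.1]; exact sm_mem_sm.2 hd.2
  have u2 : ∀ o, u o • Z2 K ≤ M0 := fun o w hw => by
    cases o with
    | none => exact e1 ▸ AddSubgroup.mem_sup_left (by simpa [u] using hw)
    | some b =>
      simp only [u, Option.elim, mul_smul] at hw
      have h2 : (s b)⁻¹ • w ∈ M0 := e1 ▸ AddSubgroup.mem_sup_right (mem_sm.1 hw)
      have h3 := (dg_tau (es b)).one ((s b)⁻¹ • w)
      rw [smul_inv_smul, one_pow, one_mul] at h3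
      change w.1 ∈ P
      rw [h3]; exact h2
  have u3 : ∀ o o', u o • Z1 K = u o' • Z1 K → o = o' := by
    have h2 : ∀ b, Z1 K ≠ (s b * g) • Z1 K := fun b e => hg (by
      rw [mul_smul, ← inv_smul_eq_iff, inv_sm_eq (dg_tau (es b)).Z1] at e; exact e.symm)
    rintro (_ | b) (_ | c) e
    · rfl
    · exact (h2 c (by simpa [u] using e)).elim
    · exact (h2 b (by simpa [u] using e.symm)).elim
    · have h3 := J.stab (T.mul_mem (T.inv_mem (hs c)) (hs b)) (g := g) (by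
        rw [mul_smul, inv_smul_eq_iff, ← mul_smul, ← mul_smul]; exact e) hg
      have h4 := es b (1, 0, 0)
      rw [← inv_mul_eq_one.1 h3, es c] at h4
      simpa [tau] using (congrArg (·.2.1) h4).symm
  have x1 : r • x ∈ (r * g) • Z1 K := by rw [mul_smul]; exact sm_mem_sm.2 hx
  have x2 : r • x ∉ M0 := fun h => hax (hr.one x ▸ h)
  have x3 : D ≤ (r * g) • Z1 K := fun d hd => by
    rw [mul_smul, ← hr.fix d hd.1]; exact sm_mem_sm.2 hd.2
  have x4 : r • x ∈ (r * g) • Z2 K := mem_sm.2 (Z1_le (mem_sm.1 x1))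
  generalize r * g = q at x1 x3 x4
  let _ := ZMod.algebra K p
  have ex : ∀ o, ∃ f : Module.Dual (ZMod p) K, f ≠ 0 ∧ ∀ w ∈ u o • Z2 K, f (q⁻¹ • w).1 = 0 := by
    intro o
    have h2 := C.index_sup hj M h1 rfl x3 (u1 o) fun e => x2 (u2 o
      (mem_sm.2 (Z1_le (mem_sm.1 (e ▸ x1)))))
    obtain ⟨f, f1, f2⟩ := Submodule.exists_le_ker_of_lt_top (AddSubgroup.toZModSubmodule p
      ((q⁻¹ • u o • Z2 K).map (AddMonoidHom.fst K (K × K)))) (lt_top_iff_ne_top.2 fun e => by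
        refine h1.ne' (h2 ▸ AddSubgroup.index_eq_one.2 ((AddSubgroup.eq_top_iff' _).2 fun w => ?_))
        obtain ⟨z, hz, ez⟩ : (q⁻¹ • w).1 ∈ (q⁻¹ • u o • Z2 K).map (AddMonoidHom.fst K (K × K)) :=
          (AddSubgroup.mem_toZModSubmodule _).1 (e ▸ Submodule.mem_top)
        have := AddSubgroup.add_mem_sup (S := q • Z2 K) (T := u o • Z2 K) (x := w - q • z)
          (y := q • z) (by simpa [mem_sm, mem_Z2, smul_sub, sub_eq_zero] using ez.symm)
          (by simpa using mem_sm.1 hz)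
        simpa using this)
    exact ⟨f, f1, fun w hw => f2 ⟨_, sm_mem_sm.2 hw, rfl⟩⟩
  choose f f1 f2 using ex
  have hi : Function.Injective f := fun o o' e => u3 o o' (by
    by_contra hne
    have h2 := C.index_sup hj M h1 rfl (u1 o) (u1 o') hne
    have h3 : u o • Z2 K ⊔ u o' • Z2 K = M0 := by
      refine AddSubgroup.eq_of_le_of_card_ge (sup_le (u2 o) (u2 o')) (le_of_eq ?_)
      have h4 := M0.card_mul_index
      rw [← (u o • Z2 K ⊔ u o' • Z2 K).card_mul_index, h2, i0, hm] at h4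
      exact Nat.eq_of_mul_eq_mul_right hp.out.pos h4
    let N : AddSubgroup (K × K × K) := ((f o).toAddMonoidHom.comp ((AddMonoidHom.fst K (K × K)).comp
      (DistribSMul.toAddMonoidHom _ q⁻¹))).ker
    have h4 : M0 ≤ N := h3 ▸ sup_le (f2 o) fun w hw => (e ▸ f2 o' w hw : f o _ = 0)
    have h5 : r • x ∈ N := by
      change f o (q⁻¹ • r • x).1 = 0
      rw [mem_Z2.1 (mem_sm.1 x4), map_zero]
    rcases (Nat.dvd_prime hp.out).1 (i0 ▸ AddSubgroup.index_dvd_of_le h4) with h6 | h6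
    · refine f1 o (LinearMap.ext fun c => ?_)
      have : f o (q⁻¹ • q • ((c, 0, 0) : K × K × K)).1 = 0 :=
        (AddSubgroup.eq_top_iff' N).1 (AddSubgroup.index_eq_one.1 h6) _
      rwa [inv_smul_smul] at this
    · refine x2 (AddSubgroup.eq_of_le_of_card_ge h4 (le_of_eq ?_) ▸ h5)
      have h7 := M0.card_mul_index
      rw [← N.card_mul_index, h6, i0] at h7
      exact (Nat.eq_of_mul_eq_mul_right hp.out.pos h7).symm)
  have : Finite (Module.Dual (ZMod p) K) := Module.finite_of_finite (ZMod p)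
  have h2 := Nat.card_le_card_of_injective f hi
  rw [Module.natCard_eq_pow_finrank (K := ZMod p) (V := Module.Dual _ _), Subspace.dual_finrank_eq,
    ← Module.natCard_eq_pow_finrank, Finite.card_option] at h2
  omega

end Cub

end CfsgLib.ExSp4
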