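import Cfsg.Agent.Lib.ExSp4.Cub

/-! A finite group acting on `K³` in characteristic two whose Sylow subgroup acts quadratically. -/

set_option autoImplicit false

namespace CfsgLib.ExSp4

open Subgroup CfsgLib.Fusion
open scoped Pointwise

variable {K : Type*} [Field K]

/-- The quadratic action. -/
def act (β : K → K → K) (s : K) (v : K × K × K) : K × K × K :=
  (v.1, v.2.1 + v.1 * s, v.2.2 + β v.1 s)

/-- The Weyl element. -/
def sw (v : K × K × K) : K × K × K := (v.2.1, v.1, v.2.2)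

theorem card_Z2 : Nat.card (Z2 K) = Nat.card K * Nat.card K := by
  rw [← Nat.card_prod]
  exact Nat.card_congr
    { toFun := fun v => v.1.2
      invFun := fun c => ⟨(0, c), rfl⟩
      left_inv := fun v => Subtype.ext (Prod.ext (mem_Z2.1 v.2).symm rfl)
      right_inv := fun _ => rfl }

variable {H : Type*} [Group H] [DistribMulAction H (K × K × K)] {T : Subgroup H}
  {β : K → K → K} {g h k t w : H} {v : K × K × K} {s : K}

/-- `T` acts as the group of the `act β s`. -/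
structure Two (β : K → K → K) (T : Subgroup H) : Prop where
  syl : SylIn 2 T ⊤
  of_mem : ∀ t ∈ T, ∃ s, ∀ v, t • v = act β s v
  ex : ∀ s, ∃ t ∈ T, ∀ v, t • v = act β s v
  left : ∀ s, β 0 s = 0
  right : ∀ x, β x 0 = 0
  onto : ∀ a b, a ≠ 0 → b ≠ 0 → ∃ x s, x * s = a ∧ β x s = b

variable [Finite K] [CharP K 2] [FaithfulSMul H (K × K × K)] (C : Two β T)
include C

namespace Two

omit [Finite K] [CharP K 2] [FaithfulSMul H (K × K × K)] in
theorem fix (ht : t ∈ T) (hv : v ∈ Z2 K) : t • v = v := by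
  obtain ⟨s, hs⟩ := C.of_mem t ht
  rw [hs]; ext <;> simp [act, mem_Z2.1 hv, C.left]

omit [Finite K] [CharP K 2] [FaithfulSMul H (K × K × K)] in
theorem sub_mem (ht : t ∈ T) (v : K × K × K) : t • v - v ∈ Z2 K := by
  obtain ⟨s, hs⟩ := C.of_mem t ht
  simp [hs, act, mem_Z2]

omit [Finite K] [CharP K 2] in
theorem eq_one (h : ∀ v, t • v = act β 0 v) : t = 1 :=
  FaithfulSMul.eq_of_smul_eq_smul (α := K × K × K) fun v => by
    rw [h]; ext <;> simp [act, C.right]

theorem flag_eq {Z : AddSubgroup (K × K × K)} (hZ : Z ≤ Z2 K) : flag H Z (Z2 K) = T :=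
  ExSp4.flag_eq C.syl hZ (fun v _ => by ext <;> simp [CharTwo.two_eq_zero]) fun t ht =>
    ⟨fun _ hv => C.fix ht (hZ hv), fun v hv => by simp [C.fix ht hv],
      sm_eq_of_mem fun v hv => by rwa [C.fix ht hv], C.sub_mem ht⟩

theorem ti : TI 2 T (Z2 K) := by
  refine ⟨C.syl, fun t ht v => C.fix ht, fun t ht h1 v hv => ?_,
    fun g hg => C.flag_eq le_rfl ▸ mem_normalizer_flag hg hg⟩
  obtain ⟨s, hs⟩ := C.of_mem t ht
  have h0 : s ≠ 0 := fun e => h1 (C.eq_one (e ▸ hs))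
  simpa [hs, act, h0, mem_Z2] using congrArg (·.2.1) hv

theorem eq_of_agree (h1 : ∀ v ∈ Z1 K, g • v = v) (h2 : ∀ v ∈ Z1 K, h • v = v)
    (e : ∀ v : K × K × K, (g • v).1 = (h • v).1 ∧ (g • v).2.1 = (h • v).2.1) : g = h := by
  have h3 : ∀ v, (h⁻¹ * g) • v - v ∈ Z1 K := fun v => by
    have h4 : g • v - h • v ∈ Z1 K := ⟨by simp [(e v).1], by simp [(e v).2]⟩
    rwa [← inv_smul_eq_iff.2 (h2 _ h4).symm, smul_sub, inv_smul_smul, ← mul_smul] at h4
  obtain ⟨s, hs⟩ := C.of_mem (h⁻¹ * g) (C.flag_eq Z1_le ▸ ⟨fun v hv => by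
    rw [mul_smul, h1 v hv, inv_smul_eq_iff, h2 v hv], fun v _ => h3 v, sm_eq_of_mem fun v hv => by
      simpa using (Z2 K).add_mem (Z1_le (h3 v)) hv, fun v => Z1_le (h3 v)⟩)
  obtain rfl : s = 0 := by simpa [hs, act] using (h3 (1, 0, 0)).2
  exact (inv_mul_eq_one.1 (C.eq_one hs)).symm

variable [Finite H]

theorem maxI (hg : g • Z2 K ≠ Z2 K) : MaxI H (Z2 K) (Nat.card K) ∧
    Nat.card (Z2 K ⊓ g • Z2 K : AddSubgroup _) = Nat.card K := by
  obtain ⟨g0, h0, M⟩ := exists_maxI hg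
  obtain ⟨e, he, he'⟩ := exists_not_mem (card_sm g0 _) h0
  choose t ht et using C.ex
  have h1 : Nat.card (Z2 K ⊓ g0 • Z2 K : AddSubgroup _) ≤ Nat.card K := by
    have := Nat.card_le_card_of_injective (fun x : (Z2 K ⊓ g0 • Z2 K : AddSubgroup _) × K =>
      (⟨x.1 + (t x.2 • e - e), (Z2 K).add_mem x.1.2.1 (C.sub_mem (ht _) e)⟩ : Z2 K))
      fun ⟨d, s⟩ ⟨d', s'⟩ hh => by
        have h2 : d.1 + (t s • e - e) = d'.1 + (t s' • e - e) := congrArg Subtype.val hh
        have h3 : ((t s')⁻¹ * t s) • e - e = d'.1 - d.1 := by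
          rw [mul_smul, sub_eq_iff_eq_add, inv_smul_eq_iff, smul_add,
            C.fix (ht s') ((Z2 K).sub_mem d'.2.1 d.2.1)]
          linear_combination (exp := 1) h2
        have h4 := C.ti.key M h0 (T.mul_mem (T.inv_mem (ht s')) (ht s)) he he'
          (h3 ▸ AddSubgroup.sub_mem _ d'.2 d.2)
        have h5 := et s (1, 0, 0)
        rw [← inv_mul_eq_one.1 h4, et s'] at h5
        obtain rfl : s' = s := by simpa [act] using congrArg (·.2.1) h5
        exact Prod.ext (Subtype.ext (add_right_cancel h2)) rfl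
    rw [Nat.card_prod, card_Z2] at this
    exact Nat.le_of_mul_le_mul_right this Nat.card_pos
  have M' : MaxI H (Z2 K) (Nat.card K) := fun h k hne => (M h k hne).trans h1
  refine ⟨M', le_antisymm (by simpa using M' 1 g (by simpa using hg.symm)) ?_⟩
  have i : ∀ g : H, (g • Z2 K).index = Nat.card K := fun g => by
    have := (g • Z2 K).card_mul_index
    rw [card_sm, card_Z2, Nat.card_prod, Nat.card_prod, ← mul_assoc] at this
    exact Nat.eq_of_mul_eq_mul_left (Nat.mul_pos Nat.card_pos Nat.card_pos) this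
  have h2 := AddSubgroup.index_inf_le (H := (1 : H) • Z2 K) (K := g • Z2 K)
  have h3 := (Z2 K ⊓ g • Z2 K).card_mul_index
  rw [i, i, one_smul] at h2
  rw [Nat.card_prod, Nat.card_prod] at h3
  exact Nat.le_of_mul_le_mul_right (h3.ge.trans (Nat.mul_le_mul_left _ h2))
    (Nat.mul_pos Nat.card_pos Nat.card_pos)

theorem exists_fst (hg : g • Z2 K ≠ Z2 K) (x : K) : ∃ e ∈ g • Z2 K, e.1 = x := by
  have h3 := ((Z2 K).addSubgroupOf (g • Z2 K)).card_mul_index
  rw [← AddSubgroup.relIndex, Z2, AddSubgroup.relIndex_ker, card_sm, ← Z2, card_Z2,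
    ← AddSubgroup.inf_addSubgroupOf_right, Nat.card_congr
    (AddSubgroup.addSubgroupOfEquivOfLe inf_le_right).toEquiv, (C.maxI hg).2] at h3
  have := AddSubgroup.eq_top_of_card_eq _ (Nat.eq_of_mul_eq_mul_left Nat.card_pos h3)
  exact (AddSubgroup.eq_top_iff' _).1 this x

theorem inter (hg : g • Z2 K ≠ Z2 K) (hv : v ∈ Z2 K) (hv' : v ∈ g • Z2 K) :
    v.2.1 = 0 ∨ v.2.2 = 0 := by
  by_contra! hn
  obtain ⟨x, s, h1, h2⟩ := C.onto _ _ hn.1 hn.2
  obtain ⟨e, he, rfl⟩ := C.exists_fst hg x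
  obtain ⟨t, ht, et⟩ := C.ex s
  have h3 : t • e - e = v := by rw [et]; ext <;> simp [act, h1, h2, mem_Z2.1 hv]
  have := C.ti.key ((C.maxI hg).2 ▸ (C.maxI hg).1) hg ht he
    (fun h => hn.1 (by rw [← h1, mem_Z2.1 h, zero_mul])) (h3 ▸ ⟨hv, hv'⟩)
  exact hn.1 (by rw [← h3, this]; simp)

theorem inf_eq (hv : v ≠ 0) (hv1 : v ∈ Z1 K) (hv2 : v ∈ g • Z2 K) (hg : g • Z2 K ≠ Z2 K) :
    Z2 K ⊓ g • Z2 K = Z1 K := by
  refine AddSubgroup.eq_of_le_of_card_ge (fun u hu => ⟨hu.1, ?_⟩) (by rw [card_Z1, (C.maxI hg).2])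
  by_contra h0
  have h1 := (C.inter hg hu.1 hu.2).resolve_left h0
  rcases C.inter hg ((Z2 K).add_mem hu.1 (Z1_le hv1)) ((g • Z2 K).add_mem hu.2 hv2) with h | h
  · exact h0 (by simpa [hv1.2] using h)
  · exact hv (Prod.ext hv1.1 (Prod.ext hv1.2 (by simpa [h1] using h)))

theorem Z1_inv (hv : v ≠ 0) (hv1 : v ∈ Z1 K) (hv2 : ∀ g : H, g • v ∈ Z2 K)
    (hg : g • Z2 K ≠ Z2 K) (h : H) : h • Z1 K = Z1 K := by
  have A : ∀ k : H, Z1 K ≤ k • Z2 K := fun k => by
    by_cases hk : k • Z2 K = Z2 K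
    · exact hk.symm ▸ Z1_le
    · exact C.inf_eq hv hv1 (mem_sm.2 (hv2 _)) hk ▸ inf_le_right
  refine sm_eq_of_mem fun u hu => C.inf_eq hv hv1 (mem_sm.2 (hv2 _)) hg ▸ ⟨?_, ?_⟩
  · simpa using mem_sm.1 (A h⁻¹ hu)
  · have := mem_sm.1 (A (h⁻¹ * g) hu)
    rw [mul_inv_rev, inv_inv, mul_smul] at this
    exact mem_sm.2 this

theorem exists_sw (hZ : ∀ h : H, h • Z1 K = Z1 K) (hg : g • Z2 K ≠ Z2 K) :
    ∃ (φ ψ : K →+ K) (w : H), ∀ x a b, w • (x, φ x + a, ψ x + b) = (a, φ a + x, ψ a + b) := by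
  let N : Subgroup H :=
    { carrier := {n | ∀ v ∈ Z1 K, n • v = v}
      one_mem' := by simp
      mul_mem' := fun {a b} ha hb v hv => by rw [mul_smul, hb v hv, ha v hv]
      inv_mem' := fun {a} ha v hv => by rw [inv_smul_eq_iff, ha v hv] }
  have hN : N.Normal := ⟨fun n hn g v hv => by
    rw [mul_smul, mul_smul, hn _ (mem_of_sm_eq (hZ _) hv), smul_inv_smul]⟩
  have hT : T ≤ N := fun t ht v hv => C.fix ht (Z1_le hv)
  obtain ⟨n, hn, hn'⟩ := (C.syl.of_le hT le_top).frattini (g := g)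
    (by rw [normalizer_eq_top]; trivial)
  have h1 : n⁻¹ • Z2 K ≠ Z2 K := fun e => hg (by
    obtain ⟨t, ht, et⟩ := C.ex 1
    have h2 : (n * g) • Z2 K = Z2 K := sm_eq_of_mem fun v hv => C.ti.mem _
      ((mem_normalizer_iff.1 hn' t).1 ht) (fun h => by
        have := et (1, 0, 0)
        rw [conj_eq_one_iff.1 h] at this
        simpa [act] using congrArg (·.2.1) this) _ (by
        rw [mul_smul _ (n * g)⁻¹, inv_smul_smul, mul_smul _ t, C.fix ht hv])
    rw [mul_smul, ← eq_inv_smul_iff, e] at h2; exact h2)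
  have dec : ∀ (n : N) (v : K × K × K), n.1 • v = n.1 • (v.1, v.2.1, 0) + (0, 0, v.2.2) :=
    fun n v => by rw [← n.2 (0, 0, v.2.2) ⟨rfl, rfl⟩, ← smul_add]; simp
  let _ : DistribMulAction N (K × K) :=
    { smul := fun n u => ((n.1 • (u.1, u.2, (0 : K))).1, (n.1 • (u.1, u.2, (0 : K))).2.1)
      one_smul := fun u => by change ((_, _) : K × K) = _; simp
      mul_smul := fun a b u => by
        change ((_, _) : K × K) = (_, _)
        rw [coe_mul, mul_smul, dec a]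
        simp only [Prod.fst_add, Prod.snd_add, add_zero]; rfl
      smul_zero := fun a => by
        change ((_, _) : K × K) = _
        rw [show ((0 : K × K).1, (0 : K × K).2, (0 : K)) = 0 from rfl, smul_zero]; rfl
      smul_add := fun a u u' => by
        change ((_, _) : K × K) = (_, _) + (_, _)
        rw [show ((u + u').1, (u + u').2, (0 : K)) = (u.1, u.2, 0) + (u'.1, u'.2, 0) by simp,
          smul_add]; rfl }
  have app : ∀ (n : N) (v : K × K × K), n • (v.1, v.2.1) = ((n.1 • v).1, (n.1 • v).2.1) :=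
    fun n v => by
      rw [dec n v]
      simp only [Prod.fst_add, Prod.snd_add, add_zero]; rfl
  have : FaithfulSMul N (K × K) := ⟨fun {a b} e => Subtype.ext (C.eq_of_agree a.2 b.2 fun v => by
    have := e (v.1, v.2.1)
    rw [app, app] at this
    exact Prod.ext_iff.1 this)⟩
  have R : R1 2 (T.subgroupOf N) (AddMonoidHom.fst K K) (AddMonoidHom.inr K K) :=
    ⟨by simpa using C.syl.subgroupOf hT, fun _ => rfl, fun u hu => ⟨u.2, Prod.ext hu rfl⟩,
      fun a b e => (Prod.ext_iff.1 e).2, fun t ht => (C.of_mem t.1 ht).imp fun s hs u => by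
        rw [app t (u.1, u.2, 0), hs]; ext <;> simp [act, mul_comm],
      fun s => (C.ex s).elim fun t ht => ⟨⟨t, hT ht.1⟩, ht.1, fun u => by
        rw [app _ (u.1, u.2, 0), ht.2]; ext <;> simp [act, mul_comm]⟩⟩
  have h2 : (⟨n, hn⟩⁻¹ : N) • (AddMonoidHom.fst K K).ker ≠ (AddMonoidHom.fst K K).ker := fun e =>
    h1 (sm_eq_of_mem fun v hv => by
      have := mem_of_sm_eq e (v := (v.1, v.2.1)) hv
      rwa [app] at this)
  obtain ⟨σ, hσ, hσ'⟩ := R.sec h2
  obtain ⟨w, -, hw⟩ := R.weyl hσ h2 hσ' (N := ⊤) le_top (fun _ _ => trivial) one_ne_zero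
  let φ : K →+ K := (AddMonoidHom.snd K K).comp σ
  have e1 : ∀ x a, w • (x, φ x + a) = (a, φ a + x) := fun x a => by
    have h3 : ∀ x a, σ x + AddMonoidHom.inr K K a = (x, φ x + a) := fun x a =>
      Prod.ext (by simpa using hσ x) (by simp [φ])
    simpa only [h3, div_one, one_mul, CharTwo.neg_eq] using hw x a
  have e2 : ∀ x a b, w.1 • (x, φ x + a, b) = (a, φ a + x, (w.1 • (x, φ x + a, (0 : K))).2.2 + b) :=
    fun x a b => by
      have := app w (x, φ x + a, 0)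
      rw [e1, Prod.ext_iff] at this
      rw [dec w]
      exact Prod.ext (by simpa using this.1.symm) (Prod.ext (by simpa using this.2.symm) (by simp))
  have e3 : w.1 * w.1 = 1 := C.eq_of_agree (w * w).2 (by simp) fun v => by
    have := e2 v.1 (v.2.1 - φ v.1) v.2.2
    rw [add_sub_cancel] at this
    rw [mul_smul, this, e2]; simp
  let ψ : K →+ K := AddMonoidHom.mk' (fun x => (w.1 • (x, φ x + 0, (0 : K))).2.2) fun x y => by
    rw [← Prod.snd_add, ← Prod.snd_add, ← smul_add]; simp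
  refine ⟨φ, ψ, w, fun x a b => ?_⟩
  have e4 : w.1 • ((0 : K), φ 0 + a, (0 : K)) = (a, φ a + 0, ψ a) := by
    have := e2 a 0 (ψ a)
    rw [show (w.1 • (a, φ a + 0, (0 : K))).2.2 = ψ a from rfl, CharTwo.add_self_eq_zero] at this
    rw [← this, ← mul_smul, e3, one_smul]
  rw [show (x, φ x + a, ψ x + b) = (x, φ x + 0, ψ x + b) + (0, φ 0 + a, 0) by simp, smul_add, e4, e2,
    show (w.1 • (x, φ x + 0, (0 : K))).2.2 = ψ x from rfl]
  refine Prod.ext (by simp) (Prod.ext (by simp only [Prod.snd_add, Prod.fst_add, map_zero, map_add]; ring) ?_)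
  simp only [Prod.snd_add]
  linear_combination ψ x * CharTwo.two_eq_zero (R := K)

theorem bruhat (hw : ∀ v : K × K × K, w • v = sw v) (hZ : ∀ h : H, h • Z1 K = Z1 K) (h : H) :
    h • Z2 K = Z2 K ∨ ∃ t ∈ T, h • Z2 K = (t * w) • Z2 K := by
  refine or_iff_not_imp_left.2 fun hh => ?_
  obtain ⟨e, he, h1⟩ := C.exists_fst hh 1
  obtain ⟨t, ht, et⟩ := C.ex e.2.1
  have A : ∀ k : H, Z1 K ≤ k • Z2 K := fun k v hv => mem_sm.2 (Z1_le (mem_of_sm_eq (hZ _) hv))
  refine ⟨t, ht, (C.maxI hh).1.eq card_Z1 (A _) (A _) he ?_ fun h => by simpa [h1] using h.1⟩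
  have : e = (t * w) • (0, 1, e.2.2 - β 1 e.2.1) := by
    rw [mul_smul, hw, et]; ext <;> simp [act, sw, h1]
  rw [this]; exact sm_mem_sm.2 rfl

omit [Finite K] [FaithfulSMul H (K × K × K)] [Finite H] in
theorem weyl (hw : ∀ v : K × K × K, w • v = sw v) (hs : s ≠ 0) : ∃ u : H, ∀ v : K × K × K, u • v =
    (v.2.1 / s, v.1 * s, v.2.2 + (β v.1 s + β (v.2.1 + v.1 * s) s⁻¹ + β (v.2.1 / s) s)) := by
  obtain ⟨a, -, ea⟩ := C.ex s
  obtain ⟨b, -, eb⟩ := C.ex s⁻¹
  refine ⟨a * w * b * w * a, fun v => ?_⟩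
  have h1 : v.1 + (v.2.1 + v.1 * s) * s⁻¹ = v.2.1 / s := by
    field_simp; linear_combination v.1 * s * CharTwo.two_eq_zero (R := K)
  simp only [mul_smul, ea, eb, hw, act, sw, h1]
  ext
  · rfl
  · simp only; field_simp; linear_combination v.2.1 * CharTwo.two_eq_zero (R := K)
  · simp only; ring

theorem adjust (hw : ∀ v : K × K × K, w • v = sw v) (hZ : ∀ h : H, h • Z1 K = Z1 K)
    (hh : h • Z2 K = Z2 K) : ∃ t ∈ T, ∀ v : K × K × K, v.2.1 = 0 → (t • h • v).2.1 = 0 := by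
  have m : ∀ v : K × K × K, w • v ∈ Z2 K ↔ v.2.1 = 0 := fun v => by rw [hw]; rfl
  have w2 : ∀ v : K × K × K, w • w • v = v := fun v => by rw [hw, hw]; rfl
  rcases C.bruhat hw hZ (h * w) with e | ⟨t, ht, e⟩
  · have := mem_of_sm_eq (inv_sm_eq hh) (mem_of_sm_eq e (v := (0, 1, 0)) rfl)
    rw [mul_smul, inv_smul_smul, m] at this
    exact (one_ne_zero this).elim
  · refine ⟨t⁻¹, T.inv_mem ht, fun v hv => ?_⟩
    have := sm_mem_sm (g := h * w).2 ((m v).2 hv)
    rw [e, mem_sm, mul_smul, w2, mul_inv_rev, mul_smul, ← w2 (t⁻¹ • h • v), inv_smul_smul] at this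
    exact (m _).1 this

omit [Finite H] in
theorem diag (hw : ∀ v : K × K × K, w • v = sw v) (hZ : ∀ h : H, h • Z1 K = Z1 K)
    (hβ : ∀ s x y : K, s ≠ 0 → β x s + β (y + x * s) s⁻¹ + β (y / s) s = 0) {c d : K}
    (hc : c ≠ 0) (hd : d ≠ 0) (h1 : ∀ v : K × K × K, (h • v).1 = c * v.1)
    (h2 : ∀ v : K × K × K, (h • v).2.1 = d * v.2.1) (x : K) :
    h • ((x, 0, 0) : K × K × K) = (c * x, 0, (h • ((0, x, 0) : K × K × K)).2.2) := by
  obtain ⟨u, hu⟩ := C.weyl hw (div_ne_zero hd hc)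
  simp only [hβ _ _ _ (div_ne_zero hd hc), add_zero] at hu
  have f : ∀ v ∈ Z1 K, w • v = v := fun v hv => by rw [hw]; ext <;> simp [sw, hv.1, hv.2]
  have e : h * w * h⁻¹ = u := C.eq_of_agree (fun v hv => by
      rw [mul_smul, mul_smul, f _ (mem_of_sm_eq (hZ _) hv), smul_inv_smul])
    (fun v hv => by rw [hu]; ext <;> simp [hv.1, hv.2]) fun v => by
      obtain ⟨v, rfl⟩ := MulAction.surjective h v
      simp only [mul_smul, inv_smul_smul, hu, hw, h1, h2, sw]
      exact ⟨by field_simp, by field_simp⟩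
  have := hu (h • (0, x, 0))
  rw [← e, mul_smul, mul_smul, inv_smul_smul, hw] at this
  refine Prod.ext (h1 _) (Prod.ext (by simp [h2]) (congrArg (·.2.2) this))

end Two

omit C in
theorem cube_eq_one (C : Two (fun x s : K => s ^ 2 * x) T) (hw : ∀ v : K × K × K, w • v = sw v)
    (hs : s ≠ 0) : s ^ 3 = 1 := by
  obtain ⟨u, hu⟩ := C.weyl hw hs
  have h2 := CharTwo.two_eq_zero (R := K)
  have A : ∀ r : K, (1 + s ^ 3) * (r ^ 2 * s + r) = 0 := fun r => by
    obtain ⟨a, ha, ea⟩ := C.ex r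
    obtain ⟨b, hb, eb⟩ := C.ex (s ^ 2 * r)
    have f : ∀ v ∈ Z1 K, (u * w) • v = v := fun v hv => by
      rw [mul_smul, hw, hu]; ext <;> simp [sw, hv.1, hv.2]
    have := C.eq_of_agree (g := u * w * a) (h := b * (u * w))
      (fun v hv => by rw [mul_smul, C.fix ha (Z1_le hv), f v hv])
      (fun v hv => by rw [mul_smul, f v hv, C.fix hb (Z1_le hv)]) fun v => by
        simp only [mul_smul, ea, eb, hw, hu, act, sw, true_and]; field_simp
    have h3 := congrArg (fun g : H => (g • ((1, 0, 0) : K × K × K)).2.2) this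
    simp only [mul_smul, ea, eb, hw, hu, act, sw] at h3
    field_simp at h3
    exact mul_left_cancel₀ hs (by linear_combination h3 + r ^ 2 * s ^ 5 * h2)
  by_cases h1 : s = 1
  · simp [h1]
  · rcases mul_eq_zero.1 (A 1) with h | h
    · linear_combination h - h2
    · exact (h1 (by linear_combination h - h2)).elim

end CfsgLib.ExSp4
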