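import Cfsg.Agent.Lib.ExSp4.Odd
import Cfsg.Agent.Lib.ExSp4.Two

/-! Fusion systems over the Sylow subgroup of `Sp(4, K)` in characteristic two: local analysis. -/

set_option autoImplicit false

namespace CfsgLib.ExSp4

open Subgroup Cfsg Cfsg.FusionSystem CfsgLib.Fusion
open scoped Pointwise

variable {K : Type*} [Field K]

/-- Coordinates on one of the two maximal elementary abelian subgroups. -/
def kap (π : U K → K) (x : U K) : K × K × K := (π x, x.a, x.b)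

/-- `kap π` identifies `E` with `K³`. -/
structure Ch (β : K → K → K) (E : Subgroup (U K)) (π : U K → K) : Prop where
  add : ∀ x ∈ E, ∀ y ∈ E, kap π (x * y) = kap π x + kap π y
  sec : ∀ w, ∃ x ∈ E, kap π x = w
  inj : ∀ x ∈ E, ∀ y ∈ E, kap π x = kap π y → x = y
  zt : ∀ x, x ∈ ZT K ↔ x ∈ E ∧ π x = 0
  cj : ∀ s, ∃ c, ∀ x ∈ E, kap π (s * x * s⁻¹) = act β c (kap π x)
  ex : ∀ c, ∃ s, ∀ x ∈ E, kap π (s * x * s⁻¹) = act β c (kap π x)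
  left : ∀ s, β 0 s = 0
  right : ∀ x, β x 0 = 0
  onto : ∀ a b, a ≠ 0 → b ≠ 0 → ∃ x s, x * s = a ∧ β x s = b

/-- All conjugates of `v` are central. -/
def Cl (F : FusionSystem (⊤ : Subgroup (U K))) (v : U K) : Prop :=
  ∀ P f, Mor F P f → v ∈ P → f v ∈ ZT K

/-- `w` induces the Weyl element. -/
def Sw (F : FusionSystem (⊤ : Subgroup (U K))) (E : Subgroup (U K)) (π : U K → K)
    (w : U K → U K) : Prop := Au F E w ∧ ∀ x ∈ E, kap π (w x) = sw (kap π x)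

variable [CharP K 2]

theorem cj1 (s : U K) {x : U K} (hx : x ∈ QQ (0 : K)) :
    kap U.t (s * x * s⁻¹) = act (fun x s => x ^ 2 * s) s.u (kap U.t x) := by
  have h2 := CharTwo.two_eq_zero (R := K)
  have h := mem_QQ.1 hx
  rw [zero_mul] at h
  ext <;> simp [kap, act, h, h2]
  · linear_combination (-x.t * s.u) * h2
  · linear_combination (-x.t ^ 2 * s.u - s.t * x.t * s.u - s.t ^ 2 * s.u) * h2

theorem cj2 (s : U K) {x : U K} (hx : x ∈ AA K) :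
    kap U.u (s * x * s⁻¹) = act (fun x s => s ^ 2 * x) s.t (kap U.u x) := by
  have h2 := CharTwo.two_eq_zero (R := K)
  ext <;> simp [kap, act, mem_AA.1 hx, h2]
  · ring
  · linear_combination (-s.t ^ 2 * s.u) * h2

theorem ch1 : Ch (fun x s : K => x ^ 2 * s) (QQ 0) U.t where
  add x _ y hy := by
    ext <;> simp [kap, mem_QQ.1 hy, CharTwo.two_eq_zero]
  sec w := ⟨⟨w.1, 0, w.2.1, w.2.2⟩, by simp [mem_QQ], rfl⟩
  inj x hx y hy e := U.ext (congrArg (·.1) e) (by simp [mem_QQ.1 hx, mem_QQ.1 hy])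
    (congrArg (·.2.1) e) (congrArg (·.2.2) e)
  zt x := by simp [mem_ZT, mem_QQ, and_comm]
  cj s := ⟨_, fun _ => cj1 s⟩
  ex c := ⟨⟨0, c, 0, 0⟩, fun _ => cj1 _⟩
  left := by simp
  right := by simp
  onto a b ha hb := ⟨b / a, a ^ 2 / b, by field_simp, by field_simp⟩

theorem ch2 : Ch (fun x s : K => s ^ 2 * x) (AA K) U.u where
  add x hx y _ := by ext <;> simp [kap, mem_AA.1 hx]
  sec w := ⟨⟨0, w.1, w.2.1, w.2.2⟩, rfl, rfl⟩
  inj x hx y hy e := U.ext (hx.trans hy.symm) (congrArg (·.1) e)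
    (congrArg (·.2.1) e) (congrArg (·.2.2) e)
  zt x := Iff.rfl
  cj s := ⟨_, fun _ => cj2 s⟩
  ex c := ⟨⟨c, 0, 0, 0⟩, fun _ => cj2 _⟩
  left := by simp
  right := by simp
  onto a b ha hb := ⟨a ^ 2 / b, b / a, by field_simp, by field_simp⟩

variable [Finite K] {F : FusionSystem (⊤ : Subgroup (U K))} {E : Subgroup (U K)} {β : K → K → K}
  {π : U K → K} {v : U K} {f w : U K → U K}

namespace Ch

variable (C : Ch β E π)
include C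

omit [CharP K 2] [Finite K] in
theorem le : ZT K ≤ E := fun x hx => ((C.zt x).1 hx).1

omit [CharP K 2] [Finite K] in
theorem nrm (s : U K) : ∀ x ∈ E, s * x * s⁻¹ ∈ E := fun _ hx =>
  conj_mem_of_mem_normalizer (normal_of_ZT C.le (mem_top s)) hx

omit [CharP K 2] [Finite K] in
theorem zs {x : U K} (hx : x ∈ E) : kap π x ∈ Z1 K ↔ x ∈ ZS K :=
  ⟨fun h => have := (C.zt x).2 ⟨hx, h.1⟩; ⟨this.1, this.2, h.2⟩,
    fun h => ⟨((C.zt x).1 ⟨h.1, h.2.1⟩).2, h.2.2⟩⟩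

omit [CharP K 2] [Finite K] in
theorem zt' {x : U K} (hx : x ∈ E) : kap π x ∈ Z2 K ↔ x ∈ ZT K :=
  ⟨fun h => (C.zt x).2 ⟨hx, h⟩, fun h => ((C.zt x).1 h).2⟩

omit [CharP K 2] [Finite K] in
theorem one : kap π 1 = 0 := by simpa using C.add 1 E.one_mem 1 E.one_mem

section

variable {H : Type*} [Group H] [DistribMulAction H (K × K × K)] {T : Subgroup H}
  (L : Loc 2 F E (kap π) T)
include L

omit [CharP K 2] [Finite K] in
theorem mv (h : ¬ Ivt F E (ZT K)) : ∃ g : H, g • Z2 K ≠ Z2 K := by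
  by_contra! hn
  refine h fun f hf x hx hx' => ?_
  obtain ⟨g, e⟩ := L.of_au f hf
  rw [← C.zt' (hf.2 x hx), ← e x hx]
  exact mem_of_sm_eq (hn g) ((C.zt' hx).2 hx')

omit [CharP K 2] in
theorem z1 (h : Ivt F E (ZS K)) (g : H) : g • Z1 K = Z1 K := sm_eq_of_mem fun v hv => by
  obtain ⟨x, hx, rfl⟩ := C.sec v
  obtain ⟨f, hf, e⟩ := L.to_au g
  rw [e x hx, C.zs (hf.2 x hx)]
  exact h f hf x hx ((C.zs hx).1 hv)

omit [CharP K 2] in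
theorem z2 {g : H} (e : ∀ x ∈ E, g • kap π x = kap π (f x)) (h : ∀ x ∈ ZT K, f x ∈ ZT K) :
    g • Z2 K = Z2 K := sm_eq_of_mem fun v hv => by
  obtain ⟨x, hx, rfl⟩ := C.sec v
  rw [e x hx]
  exact ((C.zt _).1 (h x ((C.zt' hx).1 hv))).2

omit [CharP K 2] [Finite K] in
theorem cl (h : Cl F v) (hv : v ∈ ZT K) (g : H) : g • kap π v ∈ Z2 K := by
  obtain ⟨f, hf, e⟩ := L.to_au g
  rw [e v (C.le hv)]
  exact ((C.zt _).1 (h _ _ hf.1 (C.le hv))).2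

omit [CharP K 2] [Finite K] in
theorem of_sw (hw : Sw F E π w) : ∃ g : H, ∀ v : K × K × K, g • v = sw v :=
  (L.of_au w hw.1).imp fun g e v => by
    obtain ⟨x, hx, rfl⟩ := C.sec v
    rw [e x hx, hw.2 x hx]

end

variable (hF : F.IsSaturated 2)
include hF

theorem loc : ∃ (H : Subgroup ((K × K × K) ≃ₗ[ℤ] (K × K × K))) (_ : Finite H) (T : Subgroup H),
    Loc 2 F E (kap π) T ∧ Two β T := by
  obtain ⟨H, _, T, L⟩ := exists_loc pgroup hF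
    (fullyNormalized_of_le_normalizer le_top (normal_of_ZT C.le)) _ C.add C.sec
    fun f hf x hx e => by rw [C.inj x hx 1 E.one_mem (e.trans C.one.symm), hf.1.map_one, C.one]
  refine ⟨H, ‹_›, T, L, L.syl, fun t ht => ?_, fun c => ?_, C.left, C.right, C.onto⟩
  · obtain ⟨s, -, -, e⟩ := (L.memT t).1 ht
    exact (C.cj s).imp fun c h v => by obtain ⟨x, hx, rfl⟩ := C.sec v; rw [e x hx, h x hx]
  · obtain ⟨s, h⟩ := C.ex c
    obtain ⟨t, e⟩ := L.of_au _ (au_conj le_top (mem_top s) (C.nrm s))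
    exact ⟨t, (L.memT t).2 ⟨_, trivial, C.nrm s, e⟩, fun v => by
      obtain ⟨x, hx, rfl⟩ := C.sec v; rw [e x hx, h x hx]⟩

theorem inter (h : ¬ Ivt F E (ZT K)) (hc : Cl F v) (hv : v ∈ ZT K) : v.a = 0 ∨ v.b = 0 := by
  obtain ⟨H, _, T, L, D⟩ := C.loc hF
  obtain ⟨g, hg⟩ := C.mv L h
  exact D.inter hg (v := kap π v) ((C.zt v).1 hv).2 (mem_sm.2 (C.cl L hc hv _))

theorem ivt (h : ¬ Ivt F E (ZT K)) (hc : Cl F v) (hv : v ∈ ZS K) (h1 : v ≠ 1) : Ivt F E (ZS K) := by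
  obtain ⟨H, _, T, L, D⟩ := C.loc hF
  obtain ⟨g, hg⟩ := C.mv L h
  have hv' : v ∈ ZT K := ⟨hv.1, hv.2.1⟩
  intro f hf x hx hx'
  obtain ⟨k, e⟩ := L.of_au f hf
  rw [← C.zs (hf.2 x hx), ← e x hx]
  exact mem_of_sm_eq (D.Z1_inv (fun e => h1 (C.inj _ (C.le hv') _ E.one_mem (e.trans C.one.symm)))
    ((C.zs (C.le hv')).2 hv) (C.cl L hc hv') hg k) ((C.zs hx).2 hx')

theorem exists_sw (h : ¬ Ivt F E (ZT K)) (hZ : Ivt F E (ZS K)) : ∃ (φ ψ : K →+ K) (f : U K → U K),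
    Au F E f ∧ ∀ x ∈ E, ∀ t a b, kap π x = (t, φ t + a, ψ t + b) →
      kap π (f x) = (a, φ a + t, ψ a + b) := by
  obtain ⟨H, _, T, L, D⟩ := C.loc hF
  obtain ⟨g, hg⟩ := C.mv L h
  obtain ⟨φ, ψ, k, hk⟩ := D.exists_sw (C.z1 L hZ) hg
  obtain ⟨f, hf, e⟩ := L.to_au k
  exact ⟨φ, ψ, f, hf, fun x hx t a b h => by rw [← e x hx, h, hk]⟩

theorem extend (hf : Au F E f) (h : ∀ x ∈ ZT K, f x ∈ ZT K) :
    ∃ g, Mor F ⊤ g ∧ ∀ x ∈ E, g x = f x := by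
  obtain ⟨H, _, T, L, D⟩ := C.loc hF
  obtain ⟨k, e⟩ := L.of_au f hf
  refine hf.extend pgroup hF (normal_of_ZT C.le) fun s _ => ?_
  obtain ⟨t, et⟩ := L.of_au _ (au_conj le_top (mem_top s) (C.nrm s))
  obtain ⟨s', -, h1, h2⟩ := (L.memT _).1 (conj_mem_of_mem_normalizer (D.ti.nrm k (C.z2 L e h))
    ((L.memT t).2 ⟨_, trivial, C.nrm s, et⟩))
  refine ⟨s', trivial, fun x hx => C.inj _ (hf.2 _ (C.nrm s x hx)) _ (h1 _ (hf.2 x hx)) ?_⟩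
  rw [← h2 _ (hf.2 x hx), ← e x hx, ← e _ (C.nrm s x hx), ← et x hx, mul_smul, mul_smul,
    inv_smul_smul]

variable (hw : Sw F E π w) (hZ : Ivt F E (ZS K))
include hw hZ

theorem bruhat (hf : Au F E f) : ∃ g, Mor F ⊤ g ∧ (∀ x ∈ E, g x ∈ E) ∧
    ((∀ x ∈ E, f x = g x) ∨ ∃ s, ∀ x ∈ E, f x = s * w (g x) * s⁻¹) := by
  obtain ⟨H, _, T, L, D⟩ := C.loc hF
  obtain ⟨k, e⟩ := L.of_au f hf
  obtain ⟨n, en⟩ := C.of_sw L hw
  rcases D.bruhat en (C.z1 L hZ) k with h | ⟨t, ht, h⟩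
  · obtain ⟨g, hg, eg⟩ := C.extend hF hf fun x hx => by
      rw [← C.zt' (hf.2 x (C.le hx)), ← e x (C.le hx)]
      exact mem_of_sm_eq h ((C.zt' (C.le hx)).2 hx)
    exact ⟨g, hg, fun x hx => eg x hx ▸ hf.2 x hx, Or.inl fun x hx => (eg x hx).symm⟩
  · obtain ⟨f', hf', e'⟩ := L.to_au ((t * n)⁻¹ * k)
    obtain ⟨g, hg, eg⟩ := C.extend hF hf' fun x hx => by
      rw [← C.zt' (hf'.2 x (C.le hx)), ← e' x (C.le hx), mul_smul, ← mem_sm, ← h]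
      exact sm_mem_sm.2 ((C.zt' (C.le hx)).2 hx)
    obtain ⟨s, -, h1, h2⟩ := (L.memT t).1 ht
    refine ⟨g, hg, fun x hx => eg x hx ▸ hf'.2 x hx, Or.inr ⟨s, fun x hx => ?_⟩⟩
    have h3 := hw.1.2 _ (hf'.2 x hx)
    rw [eg x hx]
    refine C.inj _ (hf.2 x hx) _ (h1 _ h3) ?_
    rw [← h2 _ h3, hw.2 _ (hf'.2 x hx), ← en, ← e' x hx, ← e x hx, ← mul_smul t, ← mul_smul (t * n),
      mul_inv_cancel_left]

theorem adjust (hf : Au F E f) (h : ∀ x ∈ ZT K, f x ∈ ZT K) :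
    ∃ s : U K, ∀ x ∈ E, x.a = 0 → (s * f x * s⁻¹).a = 0 := by
  obtain ⟨H, _, T, L, D⟩ := C.loc hF
  obtain ⟨k, e⟩ := L.of_au f hf
  obtain ⟨n, en⟩ := C.of_sw L hw
  obtain ⟨t, ht, h1⟩ := D.adjust en (C.z1 L hZ) (C.z2 L e h)
  obtain ⟨s, -, -, h2⟩ := (L.memT t).1 ht
  refine ⟨s, fun x hx h3 => ?_⟩
  have := h1 (kap π x) h3
  rwa [e x hx, h2 _ (hf.2 x hx)] at this

variable (hβ : ∀ s x y : K, s ≠ 0 → β x s + β (y + x * s) s⁻¹ + β (y / s) s = 0)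
include hβ

theorem diag (hf : Au F E f) {c d : K} (hc : c ≠ 0) (hd : d ≠ 0) (h1 : ∀ x ∈ E, π (f x) = c * π x)
    (h2 : ∀ x ∈ E, (f x).a = d * x.a) {x : U K} (hx : x ∈ E) (ha : x.a = 0) (hb : x.b = 0) :
    (f x).b = (f ⟨0, 0, π x, 0⟩).b := by
  obtain ⟨H, _, T, L, D⟩ := C.loc hF
  obtain ⟨k, e⟩ := L.of_au f hf
  obtain ⟨n, en⟩ := C.of_sw L hw
  have h3 : (⟨0, 0, π x, 0⟩ : U K) ∈ ZT K := ⟨rfl, rfl⟩
  have := D.diag (h := k) en (C.z1 L hZ) hβ hc hd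
    (fun v => by obtain ⟨x, hx, rfl⟩ := C.sec v; rw [e x hx]; exact h1 x hx)
    (fun v => by obtain ⟨x, hx, rfl⟩ := C.sec v; rw [e x hx]; exact h2 x hx) (π x)
  rw [show (π x, 0, 0) = kap π x by simp [kap, ha, hb], show (0, π x, 0) = kap π ⟨0, 0, π x, 0⟩ by
    simp [kap, ((C.zt _).1 h3).2], e x hx, e _ (C.le h3)] at this
  exact congrArg (·.2.2) this

theorem torus {s : K} (hs : s ≠ 0) : ∃ g, Mor F ⊤ g ∧ ∀ x ∈ E, g x ∈ E ∧
    kap π (g x) = (π x / s, x.a * s, x.b) := by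
  obtain ⟨H, _, T, L, D⟩ := C.loc hF
  obtain ⟨n, en⟩ := C.of_sw L hw
  obtain ⟨u, hu⟩ := D.weyl en hs
  simp only [hβ _ _ _ hs, add_zero] at hu
  obtain ⟨f, hf, e⟩ := L.to_au (u * n)
  have h1 : ∀ x ∈ E, kap π (f x) = (π x / s, x.a * s, x.b) := fun x hx => by
    rw [← e x hx, mul_smul, en, hu]; rfl
  obtain ⟨g, hg, eg⟩ := C.extend hF hf fun x hx => by
    rw [← C.zt' (hf.2 x (C.le hx)), h1 x (C.le hx), mem_Z2, ((C.zt x).1 hx).2, zero_div]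
  exact ⟨g, hg, fun x hx => eg x hx ▸ ⟨hf.2 x hx, h1 x hx⟩⟩

end Ch

theorem cube (hF : F.IsSaturated 2) (hw : Sw F (AA K) U.u w) {s : K} (hs : s ≠ 0) : s ^ 3 = 1 := by
  obtain ⟨H, _, T, L, D⟩ := ch2.loc hF
  obtain ⟨n, en⟩ := ch2.of_sw L hw
  exact cube_eq_one D en hs

end CfsgLib.ExSp4
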