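import Cfsg.Agent.Lib.ExSp4.Real
import Cfsg.Agent.Lib.StdR2.HeCov
import Cfsg.Agent.Lib.Schur.QuotUniq
import Cfsg.Agent.S2088

/-! The groups `2² · L₃(4)` and `2² · L₃(4) . 3` and their fusion systems. -/

set_option autoImplicit false
set_option synthInstance.maxSize 100000

namespace CfsgLib.ExSp4

open Subgroup Cfsg Cfsg.FusionSystem CfsgLib.Fusion CfsgLib.StdR2 CfsgLib.Classical CfsgLib.Schur
  CfsgLib.W2 CfsgLib.W2.TG CfsgLib.ClAut

/-- The multiplier. -/
abbrev Mu : Type := Multiplicative (ZMod 3 × ZMod 4 × ZMod 4)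

theorem card_Mu : Nat.card Mu = 48 := by simp [Nat.card_congr Multiplicative.toAdd]

theorem card_sq : Nat.card (powMonoidHom 2 : Mu →* Mu).range = 12 := by
  rw [Nat.card_congr (Equiv.subtypeEquivRight (q := fun x => ∃ y : Mu, y * y = x) fun x => by
    simp [pow_two]), Nat.card_eq_fintype_card]
  decide +kernel

theorem perfPP : Group.IsPerfect PP :=
  have : Group.IsPerfect SL := ⟨sl_commutator_eq_top (by simp)⟩
  inferInstance

theorem cenPP : center PP = ⊥ :=
  have : Group.IsPerfect SL := ⟨sl_commutator_eq_top (by simp)⟩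
  Group.IsPerfect.center_quotient_center_eq_bot _

theorem exists_cov : ∃ (B : Type) (_ : Group B) (_ : Finite B) (π : B →* PP), Cov π := by
  obtain ⟨Γ, _, _, σ, hσ, ⟨e⟩⟩ := (Cfsg.Agent.S2088.result card_GF4).1
  have := perfPP
  have := perfect_of_stem hσ
  let N := ((powMonoidHom 2 : Mu →* Mu).range.comap e.toMonoidHom).map σ.ker.subtype
  have hN : N ≤ σ.ker := map_subtype_le _
  have : N.Normal := ⟨fun n hn g => by
    rwa [mem_center_iff.1 (hσ.2.1 (hN hn)), mul_inv_cancel_right]⟩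
  let π := QuotientGroup.lift N σ hN
  have h1 : Function.Surjective π := fun y => (hσ.1 y).elim fun x h => ⟨x, h⟩
  have h2 : π.ker = center (Γ ⧸ N) := by
    rw [← comap_center_of_perfect (σ := π) ⟨h1, fun z hz => ?_⟩, cenPP]; rfl
    obtain ⟨z, rfl⟩ := QuotientGroup.mk_surjective z
    refine mem_center_iff.2 fun g => ?_
    obtain ⟨g, rfl⟩ := QuotientGroup.mk_surjective g
    exact congrArg QuotientGroup.mk (mem_center_iff.1 (hσ.2.1 hz) g)
  refine ⟨Γ ⧸ N, inferInstance, inferInstance, π, h1, h2, fun z hz => ?_, ?_,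
    Group.IsPerfect.commutator_eq_top⟩
  · obtain ⟨z, rfl⟩ := QuotientGroup.mk_surjective z
    have h3 : z ∈ σ.ker := h2.ge hz
    exact (QuotientGroup.eq_one_iff (z * z)).2 ⟨⟨z, h3⟩ * ⟨z, h3⟩, ⟨e ⟨z, h3⟩,
      (pow_two _).trans (map_mul e _ _).symm⟩, rfl⟩
  · have h3 := card_eq_card_ker_mul hσ.1
    have h4 := card_eq_card_ker_mul h1
    have h5 := card_eq_card_quotient_mul_card_subgroup N
    have h6 : Nat.card N = 12 := by
      rw [card_map_of_injective σ.ker.subtype_injective, ← card_sq]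
      exact Nat.card_congr (e.toEquiv.subtypeEquiv fun _ => Iff.rfl)
    rw [Nat.card_congr e.toEquiv, card_Mu, Mathieu.card_psl3_of_card card_GF4] at h3
    rw [h2, Mathieu.card_psl3_of_card card_GF4] at h4
    rw [h3, h4, h6] at h5
    omega

variable {B : Type*} [Group B] {π : B →* PP}

theorem exists_lift (C : Cov π) (δ : MulAut PP) : ∃ α : MulAut B, ∀ y, π (α y) = δ (π y) := by
  have hA := Cfsg.Agent.S2088.result card_GF4
  obtain ⟨Γ, _, _, σ, hσ, ⟨e⟩⟩ := hA.1
  have := perfPP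
  have := perfect_of_stem hσ
  have A : ∀ ξ : B →* PP, Function.Surjective ξ → ξ.ker = center B → ∃ η : Γ →* B,
      ξ.comp η = σ ∧ Function.Surjective η ∧
        η.ker = ((powMonoidHom 2 : Mu →* Mu).range.comap e.toMonoidHom).map σ.ker.subtype :=
    fun ξ h1 h2 => by
      obtain ⟨η, hη⟩ := exists_lift_of_perfect_cover hA (centralExt_of_stem hσ)
        (card_le_card_stemKer_of_cover hσ ⟨e⟩) (ξ := ξ) ⟨h1, h2.le⟩
      have s := surjective_of_lift hσ.1 ⟨h1, h2.le, le_top.trans C.perf.ge⟩ η hη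
      obtain ⟨f, hf, k⟩ := exists_ker_data e η hη s
      refine ⟨η, hη, s, ?_⟩
      rw [k, ker_eq_pow_range 2 f hf (fun b => Subtype.ext (by
        simpa [pow_two] using C.sq _ (h2.le b.2))) (by rw [card_Mu, card_sq, h2, C.card])]
  obtain ⟨η₁, h1, s1, k1⟩ := A (δ.toMonoidHom.comp π) (δ.surjective.comp C.surj) (by
    rw [← C.ker]; ext; simp)
  obtain ⟨η₂, h2, s2, k2⟩ := A π C.surj C.ker
  refine ⟨(QuotientGroup.quotientKerEquivOfSurjective η₁ s1).symm.trans
    ((QuotientGroup.quotientMulEquivOfEq (k1.trans k2.symm)).trans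
      (QuotientGroup.quotientKerEquivOfSurjective η₂ s2)), fun y => ?_⟩
  obtain ⟨x, rfl⟩ := s1 y
  have h3 : (QuotientGroup.quotientKerEquivOfSurjective η₁ s1).symm (η₁ x) = x :=
    (MulEquiv.symm_apply_eq _).2 rfl
  rw [MulEquiv.trans_apply, h3]
  exact (DFunLike.congr_fun h2 x).trans (DFunLike.congr_fun h1 x).symm

theorem exists_delta : ∃ δ : MulAut PP, δ ^ 3 = 1 ∧ ∀ a b c, δ (ub a b c) = ub (ω * a) b (ω * c) := by
  let g : GL (Fin 3) GF4 := ⟨!![ω, 0, 0; 0, 1, 0; 0, 0, 1], !![ω + 1, 0, 0; 0, 1, 0; 0, 0, 1],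
    by decide +kernel, by decide +kernel⟩
  refine ⟨pslConj _ _ g, ?_, fun a b c => ?_⟩
  · rw [← map_pow, show g ^ 3 = 1 from Units.ext (by decide +kernel), map_one]
  · obtain ⟨t, h1, h2⟩ := conj_field_pj g 1 (u a b c)
    rw [map_one, mul_one] at h1
    refine h1.trans (congrArg pj (Subtype.ext (h2.trans ?_)))
    have h : ω * (ω + 1) = 1 := by decide +kernel
    refine Matrix.ext fun i j => ?_
    fin_cases i <;> fin_cases j <;> simp [u, g, Matrix.mul_apply, Fin.sum_univ_three, h]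

/-- the fourth coordinate -/
noncomputable def cD (x : SA) : GF4 :=
  gf x.v ^ 2 * gf (x.v / 4) + gf (x.v / 16) + (ω + 1) * gf (x.v / 64)

theorem exists_j0 : ∃ e : SA ≃* U GF4, ∀ x, ρ x = ub (e x).t (e x).u (e x).a := by
  have h1 : ∀ g ∈ ([o 1, o 2, o 4, o 8] : List SA), ∀ a,
    cD (a * g) = cD a + cD g + 2 * cA a * cC g + cA a ^ 2 * cB g := by decide +kernel
  let h : SA →* U GF4 := homOf genA (fun x => ⟨cA x, cB x, cC x, cD x⟩)
    (U.ext (by decide +kernel) (by decide +kernel) (by decide +kernel) (by decide +kernel))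
    fun g hg a => U.ext (c_gen g hg a).1 (c_gen g hg a).2.1 (c_gen g hg a).2.2 (h1 g hg a)
  have h2 : ∀ x : SA, cA x = 0 → cB x = 0 → cC x = 0 → cD x = 0 → x = 1 := by decide +kernel
  refine ⟨MulEquiv.ofBijective h (((injective_iff_map_eq_one h).2 fun x e =>
    h2 x (congrArg U.t e) (congrArg U.u e) (congrArg U.a e) (congrArg U.b e)).bijective_of_nat_card_le
      ?_), fun x => ρ_eq x ⟨rfl, rfl, rfl⟩⟩
  rw [card_eq, U.card, Nat.card_eq_fintype_card, card_GF4]; norm_num

variable {K : Type*} [Field K]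

/-- Change of field. -/
def U.map {L : Type*} [Field L] (e : K ≃+* L) : U K ≃* U L where
  toFun x := ⟨e x.t, e x.u, e x.a, e x.b⟩
  invFun x := ⟨e.symm x.t, e.symm x.u, e.symm x.a, e.symm x.b⟩
  left_inv x := by simp
  right_inv x := by simp
  map_mul' x y := by ext <;> simp [map_ofNat]

theorem exists_j [Finite B] (C : Cov π) (e : K ≃+* GF4) : ∃ j : U K →* B, Function.Injective j ∧
    (∀ x, π (j x) = ub (e x.t) (e x.u) (e x.a)) ∧ ∀ (g : B) t u a, π g = ub (e t) (e u) (e a) →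
      ∃ y, g = j y ∧ y.t = t ∧ y.u = u ∧ y.a = a := by
  obtain ⟨φ, -, -, -, hφ, -⟩ := C.exists_frame
  obtain ⟨θ, hθ⟩ := exists_j0
  let j := φ.comp ((U.map e).trans θ.symm).toMonoidHom
  have h1 : ∀ x, π (j x) = ub (e x.t) (e x.u) (e x.a) := fun x => by
    simp only [j, MonoidHom.comp_apply, hφ, hθ, MulEquiv.coe_toMonoidHom, MulEquiv.trans_apply,
      MulEquiv.apply_symm_apply]; rfl
  refine ⟨j, (C.inj hφ).comp (MulEquiv.injective _), h1, fun g t u a h => ?_⟩
  obtain ⟨x, hx⟩ := ρ_surj (e t) (e u) (e a)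
  obtain ⟨v, -, rfl⟩ := C.mem_range hφ (h.trans hx.symm)
  obtain ⟨y, hy⟩ := ((U.map e).trans θ.symm).surjective (x * v)
  have h2 : φ (x * v) = j y := by rw [← hy]; rfl
  rw [h2, h1] at h
  exact ⟨y, h2, by simpa using ub_inj h⟩

variable [CharP K 2] [Finite K]

theorem real_sd [Finite B] (C : Cov π) (e : K ≃+* GF4) (A : Subgroup (MulAut B))
    (hA : ¬ 2 ∣ Nat.card A) : ∃ E : FusionSystem (⊤ : Subgroup (U K)), Std E ∧ E.IsRealizable 2 ∧
      (A = ⊥ → ∀ c d : K, c ≠ 0 → Mor E ⊤ (dg c d) → c = d) ∧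
      ∀ α ∈ A, (∀ y a b c, π y = ub a b c → π (α y) = ub (ω * a) b (ω * c)) →
        ∃ c d : K, c ≠ 0 ∧ d ≠ 0 ∧ c ≠ d ∧ Mor E ⊤ (dg c d) := by
  obtain ⟨j, hj, h1, h2⟩ := exists_j C e
  have : Finite (B ⋊[A.subtype] A) := Finite.of_equiv _ SemidirectProduct.equivProd.symm
  let J : U K →* B ⋊[A.subtype] A := SemidirectProduct.inl.comp j
  have hJ : Function.Injective J := SemidirectProduct.inl_injective.comp hj
  have cj : ∀ (g : B ⋊[A.subtype] A) x, g * J x * g⁻¹ =
      SemidirectProduct.inl (g.left * g.right.1 (j x) * g.left⁻¹) := fun g x => by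
    ext <;> simp [J, mul_assoc]
  have cen : j ⟨0, 0, 0, 1⟩ ∈ center B := C.ker.le (by
    rw [MonoidHom.mem_ker, h1]; simp [ub_zero])
  obtain ⟨E, h3, h4, h5, h6⟩ := exists_real J hJ (by
      have := J.range.card_mul_index
      rw [← Nat.card_congr (MonoidHom.ofInjective hJ).toEquiv, U.card, SemidirectProduct.card,
        card_eq_card_ker_mul C.surj, C.ker, C.card, Mathieu.card_psl3_of_card card_GF4,
        Nat.card_congr e.toEquiv, Nat.card_eq_fintype_card, card_GF4] at this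
      omega) (by
      rintro E (rfl | rfl)
      · obtain ⟨n, hn⟩ := C.surj nb
        have k : ∀ x ∈ QQ (0 : K), ∃ y, SemidirectProduct.inl n * J x * (SemidirectProduct.inl n)⁻¹ =
            J y ∧ y.t = x.a ∧ y.u = 0 := fun x hx => by
          obtain ⟨y, e1, e2, e3, -⟩ := h2 (n * j x * n⁻¹) x.a 0 x.t (by
            simp [hn, h1, mem_QQ.1 hx, nb_conj])
          exact ⟨y, by simp [J, ← e1], e2, e3⟩
        refine ⟨_, fun x hx => (k x hx).imp fun y h => ⟨by simp [mem_QQ, h.2.2], h.1⟩,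
          ⟨0, 0, 1, 0⟩, ⟨rfl, rfl⟩, (k _ (by simp [mem_QQ])).imp fun y h => ⟨fun h' => ?_, h.1⟩⟩
        exact one_ne_zero (h.2.1.symm.trans h'.1)
      · obtain ⟨n, hn⟩ := C.surj mb
        have k : ∀ x ∈ AA K, ∃ y, SemidirectProduct.inl n * J x * (SemidirectProduct.inl n)⁻¹ =
            J y ∧ y.t = 0 ∧ y.u = x.a := fun x hx => by
          obtain ⟨y, e1, e2, e3, -⟩ := h2 (n * j x * n⁻¹) 0 x.a x.u (by
            simp [hn, h1, mem_AA.1 hx, mb_conj])
          exact ⟨y, by simp [J, ← e1], e2, e3⟩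
        refine ⟨_, fun x hx => (k x hx).imp fun y h => ⟨h.2.1, h.1⟩,
          ⟨0, 0, 1, 0⟩, ⟨rfl, rfl⟩, (k _ rfl).imp fun y h => ⟨fun h' => ?_, h.1⟩⟩
        exact one_ne_zero (h.2.2.symm.trans h'.2))
    (v := ⟨0, 0, 0, 1⟩) (fun h => one_ne_zero (congrArg U.b h)) fun g y h => by
      have h7 : j y ∈ center B := by
        rw [← SemidirectProduct.inl_injective ((cj g _).symm.trans h)]
        refine Normal.conj_mem inferInstance _ (mem_center_iff.2 fun z => ?_) _
        obtain ⟨z, rfl⟩ := g.right.1.surjective z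
        rw [← map_mul, mem_center_iff.1 cen, map_mul]
      exact ZT_of_cen fun z => hj (by rw [map_mul, map_mul, mem_center_iff.1 h7])
  refine ⟨E, h3, h4, fun h => h5 fun g => ?_, fun α hα h => ?_⟩
  · rw [cj, mem_bot.1 (h.le g.right.2), MulAut.one_apply, mem_center_iff.1 cen, mul_inv_cancel_right]
    rfl
  · choose f f1 f2 f3 f4 using fun x : U K => h2 (α (j x)) (e.symm ω * x.t) x.u (e.symm ω * x.a) (by
      simpa using h _ _ _ _ (h1 x))
    refine h6 (SemidirectProduct.inr ⟨α, hα⟩) f (fun x => ?_) ⟨⟨0, 1, 0, 0⟩, fun h => one_ne_zero h.2,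
      by simp [mem_ZT, f2, f3]⟩ ⟨⟨1, 0, 0, 0⟩, fun h => ?_⟩
    · rw [cj]; simp [J, f1]
    · have h7 : -1 + e.symm ω = 0 := by simpa [f2] using h.1
      have h8 := congrArg e h7
      rw [map_add, map_neg, map_one, RingEquiv.apply_symm_apply, map_zero] at h8
      exact absurd h8 (by decide +kernel)

theorem main_std {F : FusionSystem (⊤ : Subgroup (U K))} (h : Std F) : F.IsRealizable 2 := by
  by_cases hK : ∀ t : K, t = 0 ∨ t = 1
  · obtain ⟨E, h1, h2⟩ := real_two hK
    have A : ∀ {F F' : FusionSystem (⊤ : Subgroup (U K))}, Std F → Std F' → F ≤ F' := fun h h' =>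
      h.le h' fun c d hc hd _ => by
        rw [(hK c).resolve_left hc, (hK d).resolve_left hd]; exact h'.delta one_ne_zero
    rwa [fs_le_antisymm (A h h1) (A h1 h)]
  push Not at hK
  obtain ⟨w, h0, h1⟩ := hK
  have := Fintype.ofFinite K
  have hc : Fintype.card K = 4 := by
    classical
    have h3 : w + 1 ≠ 0 := fun e => h1 (by rwa [CharTwo.add_eq_zero] at e)
    rw [← Finset.card_univ, show (Finset.univ : Finset K) = {0, 1, w, w + 1} by
      ext t; simpa using (four h.cube h0 h1).2 t, Finset.card_insert_of_notMem (by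
        simp [h0.symm, h3.symm]), Finset.card_insert_of_notMem (by simp [h1.symm, h0]),
      Finset.card_pair (by simp)]
  have e := FiniteField.ringEquivOfCardEq (hc.trans card_GF4.symm)
  obtain ⟨B, _, _, π, C⟩ := exists_cov
  by_cases hd : ∀ c d : K, c ≠ 0 → d ≠ 0 → Mor F ⊤ (dg c d) → c = d
  · obtain ⟨E, h2, h3, h4, -⟩ := real_sd C e ⊥ (by simp)
    rwa [fs_le_antisymm (h.le h2 fun c d hc hd' hm => hd c d hc hd' hm ▸ h2.delta hc)
      (h2.le h fun c d hc _ hm => h4 rfl c d hc hm ▸ h.delta hc)]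
  push Not at hd
  obtain ⟨c, d, c0, d0, hm, cd⟩ := hd
  obtain ⟨δ, h2, h3⟩ := exists_delta
  obtain ⟨α, hα⟩ := exists_lift C δ
  have h4 : α ^ 3 = 1 := MulEquiv.ext (C.hom_eq (α := (α ^ 3).toMonoidHom) (β := MonoidHom.id B)
    fun y => by
      have := DFunLike.congr_fun h2 (π y)
      simpa [pow_succ, hα] using this)
  obtain ⟨E, h5, h6, -, h7⟩ := real_sd C e (zpowers α) fun h => by
    rw [Nat.card_zpowers] at h
    exact absurd (h.trans (orderOf_dvd_of_pow_eq_one h4)) (by decide)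
  obtain ⟨c', d', c1, d1, cd', hm'⟩ := h7 α (mem_zpowers α) fun y a b c h => by rw [hα, h, h3]
  rwa [fs_le_antisymm (h.le h5 fun _ _ hc hd _ => h5.all cd' c1 d1 hm' hc hd)
    (h5.le h fun _ _ hc hd _ => h.all cd c0 d0 hm hc hd)]

theorem main_two {F : FusionSystem (⊤ : Subgroup (U K))} (hF : F.IsSaturated 2) (hO : F.core ≠ ⊥) :
    F.IsRealizable 2 := by
  by_cases h : F.IsEssential 2 (QQ 0) ∧ F.IsEssential 2 (AA K)
  · obtain ⟨v, hv, hv1⟩ := (bot_or_exists_ne_one F.core).resolve_left hO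
    have o1 := le_of_isNormal_of_essential pgroup (isNormal_core F) h.1
    have o2 := le_of_isNormal_of_essential pgroup (isNormal_core F) h.2
    obtain ⟨θ, F', h1, h2, -⟩ := exists_std hF (not_ivt hF h.1) (not_ivt hF h.2) (fun P f hf hP =>
      have := hf.mem_of_stronglyClosed (stronglyClosed_of_isNormal (isNormal_core F)) hP hv
      ⟨o2 this, by simpa [mem_QQ] using o1 this⟩) hv1
    exact TwoGrp.isRealizable_of_iso h1 (main_std h2)
  · obtain ⟨-, Q, h1, h2⟩ := constrained_of_unique pgroup hF fun R R' hR hR' => by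
      rcases ess_two hF hR with rfl | rfl <;> rcases ess_two hF hR' with rfl | rfl
      exacts [rfl, (h ⟨hR, hR'⟩).elim, (h ⟨hR', hR⟩).elim, rfl]
    exact TwoGrp.realizable_of_constrained pgroup hF h1 h2

end CfsgLib.ExSp4
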