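import Cfsg.Agent.Lib.ExSp4.TI
import Cfsg.Agent.Lib.Fusion.Essential
import Cfsg.Agent.Lib.Fusion.Normal
import Cfsg.Agent.Lib.Fus2.Sp4

/-! The action of an automizer on an abelian section; the Sylow subgroup of `Sp(4, K)` in
coordinates. -/

set_option autoImplicit false

namespace CfsgLib.ExSp4

open Subgroup Cfsg Cfsg.FusionSystem CfsgLib.Fusion

section Loc

variable {Ω : Type*} [Group Ω] {S E X Y R : Subgroup Ω} {F : FusionSystem S} {p : ℕ}
  {W : Type*} [AddCommGroup W] {f : Ω → Ω}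

/-- An automorphism of `E` in `F`. -/
def Au (F : FusionSystem S) (E : Subgroup Ω) (f : Ω → Ω) : Prop := Mor F E f ∧ ∀ x ∈ E, f x ∈ E

/-- `X ⊓ E` is invariant under the automizer of `E`. -/
def Ivt (F : FusionSystem S) (E X : Subgroup Ω) : Prop :=
  ∀ f, Au F E f → ∀ x ∈ E, x ∈ X → f x ∈ X

theorem au_ext (hE : E ≤ S) {α : MulAut E} (h : α ∈ F.autGroup E) : Au F E (extAut α) :=
  ⟨(mem_autGroup hE).1 h, fun _ => extAut_mem α⟩

theorem Au.comp {g : Ω → Ω} (h : Au F E f) (h' : Au F E g) : Au F E fun x => g (f x) :=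
  ⟨h.1.comp' h'.1 h.2, fun x hx => h'.2 _ (h.2 x hx)⟩

theorem Au.exists_inv [Finite S] (h : Au F E f) : ∃ g, Au F E g ∧ (∀ x ∈ E, g (f x) = x) ∧
    ∀ x ∈ E, f (g x) = x := by
  have := finite_of_le_S h.1.le
  obtain ⟨g, h1, h2, h3, h4, -⟩ := h.1.exists_inv' (h.1.img_eq_self h.2)
  exact ⟨g, ⟨h1, h4⟩, h2, h3⟩

theorem au_conj (hE : E ≤ S) {s : Ω} (hs : s ∈ S) (h : ∀ x ∈ E, s * x * s⁻¹ ∈ E) :
    Au F E fun x => s * x * s⁻¹ := ⟨Mor.conj F hE hs, h⟩

/-- The group `H` induced by the automizer of `E` on the section with coordinates `κ`. -/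
structure Loc (p : ℕ) (F : FusionSystem S) (E : Subgroup Ω) (κ : Ω → W) {H : Type*} [Group H]
    [DistribMulAction H W] (T : Subgroup H) : Prop where
  syl : SylIn p T ⊤
  of_au : ∀ f, Au F E f → ∃ g : H, ∀ x ∈ E, g • κ x = κ (f x)
  to_au : ∀ g : H, ∃ f, Au F E f ∧ ∀ x ∈ E, g • κ x = κ (f x)
  memT : ∀ t, t ∈ T ↔ ∃ s ∈ S, (∀ x ∈ E, s * x * s⁻¹ ∈ E) ∧ ∀ x ∈ E, t • κ x = κ (s * x * s⁻¹)
  fixN : ∀ X : Subgroup Ω, Ivt F E X → (∀ s ∈ S, ∀ z ∈ X, s * z * s⁻¹ = z) →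
    ∃ N : Subgroup H, N.Normal ∧ T ≤ N ∧ ∀ g ∈ N, ∃ f, Au F E f ∧ (∀ z ∈ E, z ∈ X → f z = z) ∧
      ∀ x ∈ E, g • κ x = κ (f x)

variable [Finite S] [Fact p.Prime] (hS : IsPGroup p S) (hF : F.IsSaturated p)
include hS hF

theorem exists_loc (hE : F.IsFullyNormalized E) (κ : Ω → W)
    (hκ : ∀ x ∈ E, ∀ y ∈ E, κ (x * y) = κ x + κ y) (hs : ∀ w, ∃ x ∈ E, κ x = w)
    (hD : ∀ f, Au F E f → ∀ x ∈ E, κ x = 0 → κ (f x) = 0) :
    ∃ (H : Subgroup (W ≃ₗ[ℤ] W)) (_ : Finite H) (T : Subgroup H), Loc p F E κ T := by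
  have := finite_of_le_S hE.1
  have := finite_autGroup F E
  choose r hr er using hs
  have k1 : κ 1 = 0 := by simpa using hκ 1 E.one_mem 1 E.one_mem
  have k2 : ∀ x ∈ E, κ x⁻¹ = -κ x := fun x hx => eq_neg_of_add_eq_zero_left (by
    rw [← hκ _ (E.inv_mem hx) _ hx, inv_mul_cancel, k1])
  have wd : ∀ α : F.autGroup E, ∀ x ∈ E, κ (extAut α.1 (r (κ x))) = κ (extAut α.1 x) :=
    fun α x hx => by
      have h1 := hD _ (au_ext hE.1 α.2) _ (E.mul_mem (E.inv_mem hx) (hr (κ x))) (by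
        rw [hκ _ (E.inv_mem hx) _ (hr _), k2 x hx, er, neg_add_cancel])
      rw [(isHomOn_extAut _).map_mul (E.inv_mem hx) (hr _), (isHomOn_extAut _).map_inv hx,
        hκ _ (E.inv_mem (extAut_mem _ hx)) _ (extAut_mem _ (hr _)), k2 _ (extAut_mem _ hx)] at h1
      exact (neg_add_eq_zero.1 h1).symm
  let ρ : F.autGroup E →* (W ≃ₗ[ℤ] W) := MonoidHom.mk' (fun α => AddEquiv.toIntLinearEquiv
    { toFun := fun w => κ (extAut α.1 (r w))
      invFun := fun w => κ (extAut α⁻¹.1 (r w))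
      left_inv := fun w => by
        simp only [wd _ _ (extAut_mem _ (hr w))]; rw [coe_inv, extAut_inv_apply, er]
      right_inv := fun w => by
        simp only [wd _ _ (extAut_mem _ (hr w))]; rw [coe_inv, extAut_apply_inv, er]
      map_add' := fun v w => by
        rw [← hκ _ (extAut_mem _ (hr v)) _ (extAut_mem _ (hr w)),
          ← (isHomOn_extAut _).map_mul (hr v) (hr w), ← wd _ _ (E.mul_mem (hr v) (hr w)),
          hκ _ (hr v) _ (hr w), er, er] })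
    fun a b => LinearEquiv.ext fun w => by
      change κ (extAut (a * b).1 (r w)) = κ (extAut a.1 (r (κ (extAut b.1 (r w)))))
      rw [wd _ _ (extAut_mem _ (hr w)), coe_mul, extAut_mul_apply]
  have app : ∀ α, ∀ x ∈ E, ρ.rangeRestrict α • κ x = κ (extAut α.1 x) := wd
  have ext : ∀ a b : ρ.range, (∀ x ∈ E, a • κ x = b • κ x) → a = b := fun a b h =>
    FaithfulSMul.eq_of_smul_eq_smul (α := W) fun w => by rw [← er w, h _ (hr w)]
  have sy := ((sat_sylIn hS hF hE).subgroupOf (autInducedBy_le_autGroup F hE.1)).map ρ.rangeRestrict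
  rw [subgroupOf_self, ← MonoidHom.range_eq_map,
    MonoidHom.range_eq_top.2 ρ.rangeRestrict_surjective] at sy
  have mT : ∀ s ∈ S, ∀ h : ∀ x ∈ E, s * x * s⁻¹ ∈ E, ∃ α : F.autGroup E,
      α.1 ∈ autInducedBy S E ∧ ∀ x ∈ E, extAut α.1 x = s * x * s⁻¹ := fun s hs h =>
    ⟨⟨_, conjAut_mem_autGroup F hE.1 hs (mem_normalizer_of_conj_mem h)⟩,
      conjAut_mem_autInducedBy _ hs, fun x hx => extAut_conjAut _ hx⟩
  refine ⟨ρ.range, Finite.of_surjective _ ρ.rangeRestrict_surjective, _, sy, fun f hf => ?_, fun g => ?_, fun t => ⟨?_, ?_⟩,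
    fun X hX hc => ?_⟩
  · obtain ⟨α, h1, h2⟩ := hf.1.exists_aut_of_mem hf.2
    exact ⟨ρ.rangeRestrict ⟨α, h1⟩, fun x hx => by rw [app _ x hx, h2 x hx]⟩
  · obtain ⟨α, rfl⟩ := ρ.rangeRestrict_surjective g
    exact ⟨_, au_ext hE.1 α.2, app α⟩
  · rintro ⟨α, hα, rfl⟩
    obtain ⟨s, hs, e⟩ := mem_autInducedBy.1 (mem_subgroupOf.1 hα)
    exact ⟨s, hs, fun x hx => e x hx ▸ extAut_mem _ hx, fun x hx => by rw [app _ x hx, e x hx]⟩
  · rintro ⟨s, hs, h1, h2⟩
    obtain ⟨α, h3, h4⟩ := mT s hs h1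
    exact ⟨α, h3, ext _ _ fun x hx => by rw [app _ x hx, h4 x hx, h2 x hx]⟩
  · let N : Subgroup (F.autGroup E) :=
      { carrier := {α | ∀ z ∈ E, z ∈ X → extAut α.1 z = z}
        one_mem' := fun z _ _ => extAut_one_apply z
        mul_mem' := fun {a b} ha hb z hz h => by
          rw [coe_mul, extAut_mul_apply, hb z hz h, ha z hz h]
        inv_mem' := fun {a} ha z hz h => by
          rw [coe_inv]; nth_rw 1 [← ha z hz h]; rw [extAut_inv_apply] }
    have hN : N.Normal := ⟨fun n hn g z hz h => by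
      rw [coe_mul, coe_mul, extAut_mul_apply, extAut_mul_apply, hn _ (extAut_mem _ hz)
        (hX _ (au_ext hE.1 g⁻¹.2) z hz h), coe_inv, extAut_apply_inv]⟩
    refine ⟨N.map ρ.rangeRestrict, hN.map _ ρ.rangeRestrict_surjective, map_mono fun α hα z hz h => ?_,
      ?_⟩
    · obtain ⟨s, hs, e⟩ := mem_autInducedBy.1 (mem_subgroupOf.1 hα)
      rw [e z hz, hc s hs z h]
    · rintro _ ⟨α, hα, rfl⟩
      exact ⟨_, au_ext hE.1 α.2, hα, app α⟩

omit hF in
theorem le_of_flag (hE : F.IsEssential p E) (hX : Ivt F E X) (hY : Ivt F E Y) (hU : R ≤ S)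
    (hn : E ≤ normalizer (R : Set Ω))
    (h : ∀ a ∈ R, ∀ x ∈ E, x⁻¹ * (a * x * a⁻¹) ∈ Y ∧ (x ∈ Y → x⁻¹ * (a * x * a⁻¹) ∈ X) ∧
      (x ∈ X → a * x * a⁻¹ = x)) : R ≤ E := by
  refine le_of_chain hS (essential_centralizerIn_le hE) (essential_radical hS hE) hU hn
    (fun i => match i with | 0 => ⊥ | 1 => X | 2 => Y | _ => ⊤) 3 (fun α hα i x hx h => ?_)
    (fun x _ h => h) le_top fun a ha _ i hi x hx h' => ?_
  · match i with
    | 0 => rw [mem_bot.1 h, (isHomOn_extAut α).map_one]; exact one_mem _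
    | 1 => exact hX _ (au_ext hE.1.1 hα) x hx h
    | 2 => exact hY _ (au_ext hE.1.1 hα) x hx h
    | _ + 3 => trivial
  · match i with
    | 0 => rw [(h a ha x hx).2.2 h', inv_mul_cancel]; exact one_mem _
    | 1 => exact (h a ha x hx).2.1 h'
    | 2 => exact (h a ha x hx).1

theorem Au.eq_conj (hE : F.IsFullyNormalized E) (hf : Au F E f) (hX : Ivt F E X)
    (h1 : ∀ x ∈ E, x ∈ X → f x = x) (h2 : ∀ x ∈ E, x⁻¹ * f x ∈ X) :
    ∃ s ∈ S, ∀ x ∈ E, f x = s * x * s⁻¹ := by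
  have := finite_of_le_S hE.1
  have := finite_autGroup F E
  obtain ⟨α, hα, e⟩ := hf.1.exists_aut_of_mem hf.2
  have h3 := mem_map_pCore_of_chain (p := p) (hS.to_le hE.1)
    (fun i => match i with | 0 => ⊥ | 1 => X | _ => ⊤) 2 (fun α hα i x hx h => by
      match i with
      | 0 => rw [mem_bot.1 h, (isHomOn_extAut α).map_one]; exact one_mem _
      | 1 => exact hX _ (au_ext hE.1 hα) x hx h
      | _ + 2 => trivial) (fun x _ h => h) le_top hα fun i hi x hx h => by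
      rw [e x hx]
      match i with
      | 0 => rw [h1 x hx h, inv_mul_cancel]; exact one_mem _
      | 1 => exact h2 x hx
  obtain ⟨s, hs, e'⟩ := mem_autInducedBy.1 ((sat_sylIn hS hF hE).le_of_le_normalizer
    (Core.isPGroup_map_pCore _) (map_subtype_le _)
    (le_normalizer.trans (Core.normalizer_le_normalizer_map_pCore _)) h3)
  exact ⟨s, hs, fun x hx => by rw [← e x hx, e' x hx]⟩

theorem Au.extend (hf : Au F E f) (hn : S ≤ normalizer (E : Set Ω))
    (h : ∀ s ∈ S, ∃ h ∈ S, ∀ x ∈ E, f (s * x * s⁻¹) = h * f x * h⁻¹) :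
    ∃ g, Mor F S g ∧ ∀ x ∈ E, g x = f x := by
  have := finite_of_le_S hf.1.le
  refine hf.1.extend_to ?_ fun s hs => mem_extn.2 ⟨hs, hn hs, h s hs⟩
  rw [hf.1.img_eq_self hf.2]
  exact sat_receptive_of_fullyNormalized hS hF (fullyNormalized_of_le_normalizer hf.1.le hn)

end Loc

/-- The Sylow subgroup of `Sp(4, K)`. -/
@[ext] structure U (K : Type*) where
  /-- the Levi coordinate -/
  t : K
  /-- the top coordinate of the abelian radical -/
  u : K
  /-- the middle coordinate -/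
  a : K
  /-- the central coordinate -/
  b : K

namespace U

variable {K : Type*} [Field K]

instance : Mul (U K) :=
  ⟨fun x y => ⟨x.t + y.t, x.u + y.u, x.a + y.a + x.t * y.u, x.b + y.b + 2 * x.t * y.a + x.t ^ 2 * y.u⟩⟩
instance : One (U K) := ⟨⟨0, 0, 0, 0⟩⟩
instance : Inv (U K) :=
  ⟨fun x => ⟨-x.t, -x.u, -x.a + x.t * x.u, -x.b + 2 * x.t * x.a - x.t ^ 2 * x.u⟩⟩

@[simp] theorem mul_t (x y : U K) : (x * y).t = x.t + y.t := rfl
@[simp] theorem mul_u (x y : U K) : (x * y).u = x.u + y.u := rfl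
@[simp] theorem mul_a (x y : U K) : (x * y).a = x.a + y.a + x.t * y.u := rfl
@[simp] theorem mul_b (x y : U K) :
    (x * y).b = x.b + y.b + 2 * x.t * y.a + x.t ^ 2 * y.u := rfl
@[simp] theorem one_t : (1 : U K).t = 0 := rfl
@[simp] theorem one_u : (1 : U K).u = 0 := rfl
@[simp] theorem one_a : (1 : U K).a = 0 := rfl
@[simp] theorem one_b : (1 : U K).b = 0 := rfl
@[simp] theorem inv_t (x : U K) : x⁻¹.t = -x.t := rfl
@[simp] theorem inv_u (x : U K) : x⁻¹.u = -x.u := rfl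
@[simp] theorem inv_a (x : U K) : x⁻¹.a = -x.a + x.t * x.u := rfl
@[simp] theorem inv_b (x : U K) : x⁻¹.b = -x.b + 2 * x.t * x.a - x.t ^ 2 * x.u := rfl

instance : Group (U K) := Group.ofLeftAxioms
  (fun _ _ _ => by ext <;> simp <;> ring) (fun _ => by ext <;> simp) fun _ => by ext <;> simp <;> ring

/-- The coordinates. -/
def equiv : U K ≃ K × K × K × K where
  toFun x := (x.t, x.u, x.a, x.b)
  invFun x := ⟨x.1, x.2.1, x.2.2.1, x.2.2.2⟩
  left_inv _ := rfl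
  right_inv _ := rfl

instance [Finite K] : Finite (U K) := Finite.of_equiv _ equiv.symm

theorem card : Nat.card (U K) = Nat.card K ^ 4 := by
  rw [Nat.card_congr equiv]; simp only [Nat.card_prod]; ring

/-- The identification with the semidirect product. -/
def toS4D : U K ≃* Fus2.S4D K where
  toFun x := ⟨Multiplicative.ofAdd (x.b, x.a, x.u), Multiplicative.ofAdd x.t⟩
  invFun x := ⟨x.right.toAdd, x.left.toAdd.2.2, x.left.toAdd.2.1, x.left.toAdd.1⟩
  left_inv _ := rfl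
  right_inv _ := rfl
  map_mul' x y := by
    refine SemidirectProduct.ext ?_ rfl
    change Multiplicative.ofAdd (_, _, _) = Multiplicative.ofAdd ((_, _, _) + (_, _, _))
    congr 1
    ext <;> simp <;> ring

theorem exists_iso [Fintype K] (p : ℕ) [hp : Fact p.Prime] [CharP K p]
    (T : Sylow p (Matrix.symplecticGroup (Fin 2) K)) :
    Nonempty (U K ≃* (T : Subgroup (Matrix.symplecticGroup (Fin 2) K))) := by
  have e := toS4D.trans (MonoidHom.ofInjective (Fus2.s4_lift_injective K))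
  obtain ⟨n, -, hn⟩ := FiniteField.card K p
  refine ⟨e.trans ((Sylow.ofCard (SemidirectProduct.lift _ _ (Fus2.s4_compat K)).range ?_).equiv T)⟩
  rw [← Nat.card_congr e.toEquiv, card, CfsgLib.Symp.card_sp, Nat.card_eq_fintype_card, hn]
  have h1 : ∀ i, ¬ p ∣ (p ^ (n : ℕ)) ^ (2 * (i + 1)) - 1 := fun i hd => by
    have := Nat.dvd_sub ((dvd_pow_self p n.ne_zero).trans
      (dvd_pow_self _ (by omega : 2 * (i + 1) ≠ 0))) hd
    rw [Nat.sub_sub_self (Nat.one_le_pow _ _ (pow_pos hp.out.pos _)), Nat.dvd_one] at this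
    exact hp.out.one_lt.ne' this
  have h2 : ¬ p ∣ ∏ i ∈ Finset.range 2, ((p ^ (n : ℕ)) ^ (2 * (i + 1)) - 1) := fun hd => by
    obtain ⟨i, -, hi⟩ := (Prime.dvd_finsetProd_iff hp.out.prime _).1 hd
    exact h1 i hi
  rw [Nat.factorization_mul (pow_pos (pow_pos hp.out.pos _) _).ne'
    (fun h0 => h2 (by rw [h0]; exact dvd_zero p)), Finsupp.add_apply,
    Nat.factorization_eq_zero_of_not_dvd h2, ← pow_mul, ← pow_mul, hp.out.factorization_pow]
  simp

end U

section Sub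

variable (K : Type*) [Field K]

/-- The last root subgroup. -/
def ZS : Subgroup (U K) where
  carrier := {x | x.t = 0 ∧ x.u = 0 ∧ x.a = 0}
  one_mem' := ⟨rfl, rfl, rfl⟩
  mul_mem' := fun ha hb => by simp [ha.1, ha.2.1, ha.2.2, hb.1, hb.2.1, hb.2.2]
  inv_mem' := fun ha => by simp [ha.1, ha.2.1, ha.2.2]

/-- The product of the last two root subgroups. -/
def ZT : Subgroup (U K) where
  carrier := {x | x.t = 0 ∧ x.u = 0}
  one_mem' := ⟨rfl, rfl⟩
  mul_mem' := fun ha hb => by simp [ha.1, ha.2, hb.1, hb.2]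
  inv_mem' := fun ha => by simp [ha.1, ha.2]

/-- The abelian radical. -/
def AA : Subgroup (U K) where
  carrier := {x | x.t = 0}
  one_mem' := rfl
  mul_mem' := fun {a b} (ha : a.t = 0) (hb : b.t = 0) => by simp [ha, hb]
  inv_mem' := fun {a} (ha : a.t = 0) => by simp [ha]

variable {K}

/-- The other subgroups of index `q` over the derived subgroup. -/
def QQ (l : K) : Subgroup (U K) where
  carrier := {x | x.u = l * x.t}
  one_mem' := by simp
  mul_mem' := fun {a b} (ha : a.u = _) (hb : b.u = _) => by simp [ha, hb, mul_add]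
  inv_mem' := fun {a} (ha : a.u = _) => by simp [ha]

variable {x : U K} {l : K}

theorem mem_ZS : x ∈ ZS K ↔ x.t = 0 ∧ x.u = 0 ∧ x.a = 0 := Iff.rfl
theorem mem_ZT : x ∈ ZT K ↔ x.t = 0 ∧ x.u = 0 := Iff.rfl
theorem mem_AA : x ∈ AA K ↔ x.t = 0 := Iff.rfl
theorem mem_QQ : x ∈ QQ l ↔ x.u = l * x.t := Iff.rfl

theorem conj_ZS (s : U K) (hx : x ∈ ZS K) : s * x * s⁻¹ = x := by
  ext <;> simp [hx.1, hx.2.1, hx.2.2] <;> ring

theorem normal_of_ZT {E : Subgroup (U K)} (h : ZT K ≤ E) : ⊤ ≤ normalizer (E : Set (U K)) := by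
  have key : ∀ s : U K, ∀ x ∈ E, s * x * s⁻¹ ∈ E := fun s x hx => by
    simpa using E.mul_mem (h (x := s * x * s⁻¹ * x⁻¹) ⟨by simp, by simp⟩) hx
  exact fun s _ => mem_normalizer_iff.2 fun x => ⟨key s x, fun hx => by
    simpa [mul_assoc] using key s⁻¹ _ hx⟩

theorem ZT_le_AA : ZT K ≤ AA K := fun _ h => h.1

theorem ZT_le_QQ : ZT K ≤ QQ l := fun x h => by simp [mem_QQ, h.1, h.2]

theorem comm_AA {y : U K} (hx : x ∈ AA K) (hy : y ∈ AA K) : x * y = y * x := by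
  ext <;> simp [mem_AA.1 hx, mem_AA.1 hy, add_comm]

end Sub

end CfsgLib.ExSp4
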