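import Cfsg.Agent.Lib.ExSp4.Loc
import Cfsg.Agent.Lib.ExSp4.Cub
import Cfsg.Agent.Lib.Fusion.SmallCenter

/-! Fusion systems with nontrivial core over the Sylow subgroup of `Sp(4, K)` in odd
characteristic are constrained. -/

set_option autoImplicit false

namespace CfsgLib.ExSp4

open Subgroup Cfsg Cfsg.FusionSystem CfsgLib.Fusion
open scoped Pointwise

section Gen

variable {Ω : Type*} [Group Ω] {S E : Subgroup Ω} {F : FusionSystem S} {p : ℕ} {f : Ω → Ω}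
  [Finite S]

theorem Au.surj (h : Au F E f) {y : Ω} (hy : y ∈ E) : ∃ x ∈ E, f x = y :=
  h.exists_inv.elim fun g h => ⟨g y, h.1.2 y hy, h.2.2 y hy⟩

theorem Au.cent (h : Au F E f) {x : Ω} (hx : x ∈ E) (hc : ∀ y ∈ E, x * y = y * x) :
    ∀ y ∈ E, f x * y = y * f x := fun y hy => by
  obtain ⟨z, hz, rfl⟩ := h.surj hy
  rw [← h.1.map_mul hx hz, hc z hz, h.1.map_mul hz hx]

theorem au_top (h : Mor F S f) : Au F S f := ⟨h, fun _ => h.mem⟩

variable [Fact p.Prime] (hS : IsPGroup p S) (hF : F.IsSaturated p)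
include hS hF

theorem exists_pow_inner (h : Mor F S f) :
    ∃ n, ¬ p ∣ n ∧ ∃ s ∈ S, ∀ x ∈ S, f^[n] x = s * x * s⁻¹ := by
  have := finite_autGroup F S
  obtain ⟨α, hα, e⟩ := h.exists_aut h.img_top
  have : ((Inn S).subgroupOf (F.autGroup S)).Normal :=
    (normal_subgroupOf_iff_le_normalizer (Inn_le_autGroup F le_rfl)).2 (le_normalizer_Inn _)
  obtain ⟨s, hs, es⟩ := mem_Inn.1 (mem_subgroupOf.1
    (((Inn S).subgroupOf (F.autGroup S)).pow_index_mem ⟨α, hα⟩))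
  refine ⟨_, (sat_sylIn_top hS hF).not_dvd_relIndex, s, hs, fun x hx => ?_⟩
  rw [← es x hx, relIndex]
  generalize ((Inn S).subgroupOf (F.autGroup S)).index = n
  induction n with
  | zero => exact (extAut_one_apply x).symm
  | succ n ih =>
    rw [Function.iterate_succ_apply', ih, pow_succ', coe_mul, extAut_mul_apply,
      e _ (extAut_mem _ hx)]

theorem constrained_of_unique (h : ∀ R R', F.IsEssential p R → F.IsEssential p R' → R = R') :
    F.IsConstrained p := by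
  by_cases h0 : ∃ R, F.IsEssential p R
  · obtain ⟨R, hR⟩ := h0
    refine ⟨hF, R, isNormal_of_alperin hS hF ?_, hR.1⟩
    rintro P (rfl | hP)
    · exact ⟨hR.1.1, fun α hα => h _ _ (((mem_autGroup le_rfl).1 hα).essential_img_of_top hR) hR⟩
    · obtain rfl := h _ _ hP hR
      exact ⟨le_rfl, fun α _ => img_extAut α⟩
  · exact ⟨hF, S, isNormal_top_of_no_essential hS hF fun R hR => h0 ⟨R, hR⟩, centric_top F⟩

end Gen

variable {K : Type*} [Field K] [Finite K] {p : ℕ} [hp : Fact p.Prime] [CharP K p]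
  {F : FusionSystem (⊤ : Subgroup (U K))} {E : Subgroup (U K)} {l : K} {x y : U K}

theorem pgroup : IsPGroup p (⊤ : Subgroup (U K)) := by
  have := Fintype.ofFinite K
  obtain ⟨n, -, hn⟩ := FiniteField.card K p
  exact IsPGroup.of_card (n := n * 4) (by rw [card_top, U.card, Nat.card_eq_fintype_card, hn, pow_mul])

omit [CharP K p] hp in
theorem ZS_le (hE : F.IsEssential p E) : ZS K ≤ E := fun z hz =>
  essential_mem_of_comm hE trivial fun x _ => mul_inv_eq_iff_eq_mul.1 (conj_ZS x hz)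

omit [CharP K p] hp in
theorem eq_AA (hE : F.IsEssential p E) (h : E ≤ AA K) : E = AA K :=
  le_antisymm h fun _ hz => essential_mem_of_comm hE trivial fun _ hx => comm_AA (h hx) hz

/-- The second coordinate on `QQ l`. -/
def eta (l : K) (x : U K) : K := 2 * x.a - l * x.t ^ 2

omit [Finite K] in
theorem comm_QQ (hx : x ∈ QQ l) (hy : y ∈ QQ l) :
    x * y = y * x ↔ x.t * eta l y = y.t * eta l x := by
  rw [mem_QQ] at hx hy
  refine ⟨fun h => ?_, fun h => ?_⟩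
  · have := congrArg U.b h
    simp only [U.mul_b, hx, hy, eta] at this ⊢
    linear_combination this
  · simp only [eta] at h
    ext <;> simp only [U.mul_t, U.mul_u, U.mul_a, U.mul_b, hx, hy]
    · ring
    · ring
    · ring
    · linear_combination h

omit [Finite K] in
theorem mem_ZS_of_comm (h2 : (2 : K) ≠ 0) {c w s : U K} (hw : w.t = 0) (hw' : w ∉ ZS K)
    (hs : s.t ≠ 0) (h1 : c * w = w * c) (h3 : c * s = s * c) : c ∈ ZS K := by
  have a1 := congrArg U.a h1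
  have b1 := congrArg U.b h1
  have a3 := congrArg U.a h3
  have b3 := congrArg U.b h3
  simp only [U.mul_a, U.mul_b, hw] at a1 b1 a3 b3
  have ht : c.t = 0 := by
    by_contra h0
    have e1 : w.u = 0 := mul_left_cancel₀ h0 (by linear_combination a1)
    exact hw' ⟨hw, e1, mul_left_cancel₀ (mul_ne_zero h2 h0) (by
      rw [e1] at b1; linear_combination b1)⟩
  have hu : c.u = 0 := mul_left_cancel₀ hs (by rw [ht] at a3; linear_combination -a3)
  exact ⟨ht, hu, mul_left_cancel₀ (mul_ne_zero h2 hs) (by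
    rw [ht, hu] at b3; linear_combination -b3)⟩

theorem le_of_ZS (hE : F.IsEssential p E) (hZ : Ivt F E (ZS K)) {R : Subgroup (U K)}
    (hR : ZT K ≤ R) (h : ∀ a ∈ R, ∀ x ∈ E, a.t * x.u = x.t * a.u) : R ≤ E :=
  le_of_flag pgroup hE hZ hZ le_top (le_top.trans (normal_of_ZT hR)) fun a ha x hx =>
    have : x⁻¹ * (a * x * a⁻¹) ∈ ZS K := ⟨by simp, by simp, by
      simp only [U.mul_a, U.mul_t, U.mul_u, U.inv_a, U.inv_t, U.inv_u]
      linear_combination h a ha x hx⟩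
    ⟨this, fun _ => this, conj_ZS a⟩

theorem not_flag (hF : F.IsSaturated p) (hE : F.IsEssential p E) (hZ : Ivt F E (ZS K))
    (hT : Ivt F E (ZT K)) : False :=
  essential_ne_top pgroup hF hE (top_le_iff.1 (le_of_flag pgroup hE hZ hT le_top
    (le_top.trans (normal_of_ZT le_top)) fun a _ x _ => ⟨⟨by simp, by simp⟩, fun h =>
      ⟨by simp, by simp, by simp [h.1, h.2]; ring⟩, conj_ZS a⟩))

variable (h2 : (2 : K) ≠ 0) (hF : F.IsSaturated p)
include h2 hF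

theorem not_pearl (hO : F.core ≠ ⊥) (hE : F.IsEssential p E) {s : U K} (hs : s ∈ E)
    (hs' : s.t ≠ 0) (h : ∀ w ∈ E, w.t = 0 → w ∈ ZS K) : False := by
  classical
  have hQ : E ≤ QQ (s.u / s.t) := fun x hx => by
    have := (h _ (E.mul_mem (E.mul_mem (E.mul_mem hs hx) (E.inv_mem hs)) (E.inv_mem hx))
      (by simp)).2.2
    simp only [U.mul_a, U.mul_t, U.mul_u, U.inv_a, U.inv_t, U.inv_u] at this
    rw [mem_QQ]; field_simp; linear_combination this
  generalize s.u / s.t = l at hQ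
  by_cases hZ : Ivt F E (ZS K)
  · have := le_of_ZS hE hZ le_rfl (fun a ha x _ => by simp [ha.1, ha.2]) (x := ⟨0, 0, 1, 0⟩)
      ⟨rfl, rfl⟩
    simpa using (h _ this rfl).2.2
  simp only [Ivt, not_forall] at hZ
  obtain ⟨f, hf, z, hz, hz1, hz2⟩ := hZ
  have h3 := hf.cent hz fun y _ => (mul_inv_eq_iff_eq_mul.1 (conj_ZS y hz1)).symm
  have h4 : (f z).t ≠ 0 := fun e => hz2 (h _ (hf.2 z hz) e)
  obtain ⟨μ, hμ⟩ : ∃ μ, ∀ x ∈ E, eta l x = μ * x.t := ⟨eta l (f z) / (f z).t, fun x hx => by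
    have := (comm_QQ (hQ (hf.2 z hz)) (hQ hx)).1 (h3 x hx)
    field_simp; linear_combination this⟩
  let _ : CommGroup E := { (inferInstance : Group E) with
    mul_comm := fun a b => Subtype.ext ((comm_QQ (hQ a.2) (hQ b.2)).2 (by
      rw [hμ _ a.2, hμ _ b.2]; ring)) }
  let κ : U K → Additive E := fun x => Additive.ofMul (if h : x ∈ E then ⟨x, h⟩ else 1)
  have kx : ∀ x (hx : x ∈ E), κ x = Additive.ofMul ⟨x, hx⟩ := fun x hx => by simp [κ, hx]
  obtain ⟨H, _, T, L⟩ := exists_loc pgroup hF hE.2.1 κ (fun x hx y hy => by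
    rw [kx _ hx, kx _ hy, kx _ (E.mul_mem hx hy)]; rfl) (fun w => ⟨_, w.toMul.2, kx _ _⟩)
    fun f hf x hx e => by
      rw [kx _ hx] at e
      obtain rfl : x = 1 := congrArg Subtype.val (ofMul_eq_zero.1 e)
      rw [hf.1.map_one, kx _ E.one_mem]; rfl
  let π : Additive E →+ K := AddMonoidHom.mk' (fun w => w.toMul.1.t) fun _ _ => rfl
  let ι : K →+ Additive E := AddMonoidHom.mk' (fun b => Additive.ofMul
    ⟨⟨0, 0, 0, b⟩, ZS_le hE ⟨rfl, rfl, rfl⟩⟩) fun a b => by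
      rw [← ofMul_mul]; congr 1; ext <;> simp
  have cj : ∀ g ∈ QQ l, ∀ x ∈ E, g * x * g⁻¹ = x * ⟨0, 0, 0, (g.t * μ - eta l g) * x.t⟩ :=
    fun g hg x hx => by
      have e1 := hμ x hx
      have e2 := mem_QQ.1 (hQ hx)
      rw [mem_QQ] at hg
      simp only [eta] at e1 ⊢
      ext <;> simp [hg, e2]
      · ring
      · linear_combination g.t * e1
  have act : ∀ (t : H) (g : U K) (h1 : ∀ x ∈ E, g * x * g⁻¹ ∈ E), g ∈ QQ l →
      (∀ x ∈ E, t • κ x = κ (g * x * g⁻¹)) → ∀ v, t • v = v + ι ((g.t * μ - eta l g) * π v) :=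
    fun t g h1 hg e v => by
      have := e _ v.toMul.2
      rw [kx _ v.toMul.2, kx _ (h1 _ v.toMul.2)] at this
      exact this.trans (congrArg Additive.ofMul (Subtype.ext (cj g hg _ v.toMul.2)))
  have R : R1 p T π ι := by
    refine ⟨L.syl, fun _ => rfl, fun v hv => ⟨v.toMul.1.b, ?_⟩, fun a b e => ?_, fun t ht => ?_,
      fun b => ?_⟩
    · have := h _ v.toMul.2 hv
      exact congrArg Additive.ofMul (Subtype.ext (U.ext this.1 this.2.1 this.2.2 rfl))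
    · exact congrArg (fun w : Additive E => w.toMul.1.b) e
    · obtain ⟨g, -, h1, e⟩ := (L.memT t).1 ht
      refine ⟨_, act t g h1 ?_ e⟩
      have := (h _ (E.mul_mem (h1 s hs) (E.inv_mem hs)) (by simp)).2.2
      simp only [U.mul_a, U.mul_t, U.mul_u, U.inv_a, U.inv_t, U.inv_u, mem_QQ.1 (hQ hs)] at this
      exact mul_left_cancel₀ hs' (by linear_combination -this)
    · have hg : (⟨0, 0, -b / 2, 0⟩ : U K) ∈ QQ l := by simp [mem_QQ]
      have h1 : ∀ x ∈ E, (⟨0, 0, -b / 2, 0⟩ : U K) * x * (⟨0, 0, -b / 2, 0⟩ : U K)⁻¹ ∈ E :=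
        fun x hx => cj _ hg x hx ▸ E.mul_mem hx (ZS_le hE ⟨rfl, rfl, rfl⟩)
      obtain ⟨t, e⟩ := L.of_au _ (au_conj le_top (mem_top _) h1)
      refine ⟨t, (L.memT t).2 ⟨_, trivial, h1, e⟩, fun v => ?_⟩
      rw [act t _ h1 hg e]
      congr 3
      simp only [eta]; field_simp; ring
  have sc := stronglyClosed_of_isNormal (isNormal_core F)
  have oE := le_of_isNormal_of_essential pgroup (isNormal_core F) hE
  have oZ : ∀ v ∈ F.core, v.t = 0 := fun v hv => by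
    have := (h _ (oE (F.core.mul_mem (conj_mem_of_stronglyClosed sc (s := ⟨0, 1, 0, 0⟩)
      trivial hv) (F.core.inv_mem hv))) (by simp)).2.2
    simp only [U.mul_a, U.mul_t, U.mul_u, U.inv_a, U.inv_t, U.inv_u] at this
    linear_combination -this
  obtain ⟨v, hv, hv1⟩ := (bot_or_exists_ne_one F.core).resolve_left hO
  obtain ⟨g, hg⟩ := L.of_au f hf
  obtain ⟨f', hf', hg'⟩ := L.to_au g⁻¹
  have := R.disj (h := g) (k := 1) (v := κ v) (fun e => h4 (by
    have := mem_of_sm_eq (e.trans (one_smul _ _)) (v := κ z) (by rw [kx _ hz]; exact hz1.1)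
    rwa [hg z hz, kx _ (hf.2 z hz)] at this)) (by
      rw [mem_sm, hg' v (oE hv), kx _ (hf'.2 v (oE hv))]
      exact oZ _ (hf'.1.mem_of_stronglyClosed sc (oE hv) hv)) (by
      rw [mem_sm, inv_one, one_smul, kx _ (oE hv)]; exact oZ v hv)
  rw [kx _ (oE hv)] at this
  exact hv1 (congrArg Subtype.val (ofMul_eq_zero.1 this))

theorem ess_cases (hO : F.core ≠ ⊥) (hE : F.IsEssential p E) : E = AA K ∨ ∃ l, E = QQ l := by
  by_cases h1 : E ≤ AA K
  · exact Or.inl (eq_AA hE h1)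
  obtain ⟨s, hs, hs'⟩ := SetLike.not_le_iff_exists.1 h1
  by_cases h3 : ∀ w ∈ E, w.t = 0 → w ∈ ZS K
  · exact (not_pearl h2 hF hO hE hs hs' h3).elim
  push Not at h3
  obtain ⟨w, hw, hw1, hw2⟩ := h3
  have hZ : Ivt F E (ZS K) := fun f hf z hz hz1 =>
    have := hf.cent hz fun y _ => (mul_inv_eq_iff_eq_mul.1 (conj_ZS y hz1)).symm
    mem_ZS_of_comm h2 hw1 hw2 hs' (this w hw) (this s hs)
  rw [mem_AA] at hs'
  by_cases h4 : E ≤ QQ (s.u / s.t)
  · exact Or.inr ⟨_, le_antisymm h4 (le_of_ZS hE hZ ZT_le_QQ fun a ha x hx => by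
      rw [mem_QQ.1 ha, mem_QQ.1 (h4 hx)]; ring)⟩
  obtain ⟨x, hx, hx'⟩ := SetLike.not_le_iff_exists.1 h4
  refine (not_flag hF hE hZ fun f hf c hc hc1 => ?_).elim
  have A : ∀ y ∈ E, (f c).t * y.u = y.t * (f c).u := fun y hy => by
    obtain ⟨z, hz, rfl⟩ := hf.surj hy
    have := (hZ f hf _ (E.mul_mem (E.mul_mem (E.mul_mem hc hz) (E.inv_mem hc)) (E.inv_mem hz))
      ⟨by simp, by simp, by simp [hc1.1, hc1.2]⟩).2.2
    rw [hf.1.map_mul (E.mul_mem (E.mul_mem hc hz) (E.inv_mem hc)) (E.inv_mem hz), hf.1.map_conj hc hz,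
      hf.1.map_inv hz] at this
    simp only [U.mul_a, U.mul_t, U.mul_u, U.inv_a, U.inv_t, U.inv_u] at this
    linear_combination this
  have h5 : (f c).t = 0 := by
    by_contra h0
    have : x.u * s.t = x.t * s.u := mul_left_cancel₀ h0 (by
      linear_combination s.t * A x hx - x.t * A s hs)
    refine hx' (mem_QQ.2 ?_)
    field_simp
    linear_combination this
  exact ⟨h5, mul_left_cancel₀ hs' (by rw [← A s hs, h5]; ring)⟩

theorem QQ_loc (hE : F.IsEssential p (QQ l)) :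
    ((∀ v ∈ F.core, v ∈ ZT K) → ∀ v ∈ F.core, v ∈ ZS K) ∧
    ∀ c : K, c ≠ 0 → ∃ g, Mor F ⊤ g ∧ (∀ z ∈ ZS K, g z = z) ∧
      (∀ y ∈ ZT K, g y ∈ ZT K ∧ (g y).a = c * y.a) ∧ ∀ x ∈ QQ l, g x ∈ QQ l ∧ (g x).t = x.t / c := by
  have hZ : Ivt F (QQ l) (ZS K) := fun f hf z hz hz1 =>
    have := hf.cent hz fun y _ => (mul_inv_eq_iff_eq_mul.1 (conj_ZS y hz1)).symm
    mem_ZS_of_comm h2 (w := ⟨0, 0, 1, 0⟩) (s := ⟨1, l, 0, 0⟩) rfl (by simp [mem_ZS]) one_ne_zero
      (this _ (by simp [mem_QQ])) (this _ (by simp [mem_QQ]))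
  let κ : U K → K × K := fun x => (x.t, eta l x)
  have k0 : ∀ x ∈ QQ l, κ x = 0 ↔ x ∈ ZS K := fun x hx => by
    simp only [κ, Prod.mk_eq_zero, eta, mem_ZS, mem_QQ.1 hx]
    exact ⟨fun h => ⟨h.1, by simp [h.1], by simpa [h.1, h2] using h.2⟩,
      fun h => ⟨h.1, by simp [h.1, h.2.2]⟩⟩
  have ka : ∀ x ∈ QQ l, ∀ y ∈ QQ l, κ (x * y) = κ x + κ y := fun x _ y hy => by
    ext <;> simp [κ, eta, mem_QQ.1 hy]; ring
  have ks : ∀ x ∈ QQ l, ∀ y ∈ QQ l, κ x = κ y → x⁻¹ * y ∈ ZS K := fun x hx y hy e => by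
    have h1 := ka x hx _ ((QQ l).mul_mem ((QQ l).inv_mem hx) hy)
    rw [mul_inv_cancel_left, ← e, left_eq_add] at h1
    exact (k0 _ ((QQ l).mul_mem ((QQ l).inv_mem hx) hy)).1 h1
  obtain ⟨H, _, T, L⟩ := exists_loc pgroup hF hE.2.1 κ ka (fun w =>
    ⟨⟨w.1, l * w.1, (w.2 + l * w.1 ^ 2) / 2, 0⟩, rfl, by ext <;> simp [κ, eta]; field_simp; ring⟩)
    fun f hf x hx e => (k0 _ (hf.2 x hx)).2 (hZ f hf x hx ((k0 x hx).1 e))
  have nQ : ∀ s : U K, ∀ x ∈ QQ l, s * x * s⁻¹ ∈ QQ l := fun s x hx => by simpa [mem_QQ] using hx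
  have cj : ∀ s : U K, ∀ x ∈ QQ l, κ (s * x * s⁻¹) =
      κ x + AddMonoidHom.inr K K (2 * (l * s.t - s.u) * x.t) := fun s x hx => by
    ext <;> simp [κ, eta, mem_QQ.1 hx]; ring
  have ks' : ∀ w, ∃ x ∈ QQ l, κ x = w := fun w =>
    ⟨⟨w.1, l * w.1, (w.2 + l * w.1 ^ 2) / 2, 0⟩, rfl, by ext <;> simp [κ, eta]; field_simp; ring⟩
  have R : R1 p T (AddMonoidHom.fst K K) (AddMonoidHom.inr K K) := by
    refine ⟨L.syl, fun _ => rfl, fun u hu => ⟨u.2, Prod.ext hu rfl⟩,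
      fun a b e => (Prod.ext_iff.1 e).2, fun t ht => ?_, fun b => ?_⟩
    · obtain ⟨s, -, -, e⟩ := (L.memT t).1 ht
      exact ⟨_, fun v => by obtain ⟨x, hx, rfl⟩ := ks' v; rw [e x hx, cj s x hx]; rfl⟩
    · obtain ⟨t, e⟩ := L.of_au _ (au_conj le_top (mem_top ⟨0, -b / 2, 0, 0⟩) (nQ _))
      refine ⟨t, (L.memT t).2 ⟨_, trivial, nQ _, e⟩, fun v => ?_⟩
      obtain ⟨x, hx, rfl⟩ := ks' v
      rw [e x hx, cj _ x hx]
      congr 3
      simp only; field_simp; ring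
  obtain ⟨g, hg⟩ : ∃ g : H, g • (AddMonoidHom.fst K K).ker ≠ (AddMonoidHom.fst K K).ker := by
    by_contra! hn
    refine not_flag hF hE hZ fun f hf x hx hx1 => ?_
    obtain ⟨g, e⟩ := L.of_au f hf
    have := mem_of_sm_eq (hn g) (v := κ x) hx1.1
    rw [e x hx] at this
    exact ⟨this, by rw [mem_QQ.1 (hf.2 x hx), show (f x).t = 0 from this, mul_zero]⟩
  have sc := stronglyClosed_of_isNormal (isNormal_core F)
  refine ⟨fun h0 v hv => ?_, fun c hc => ?_⟩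
  · obtain ⟨f, hf, e⟩ := L.to_au g⁻¹
    have hv1 := ZT_le_QQ (l := l) (h0 v hv)
    refine (k0 v hv1).1 (R.disj (h := g) (k := 1) (fun e => hg (e.trans (one_smul _ _))) ?_ ?_)
    · rw [mem_sm, e v hv1]; exact (h0 _ (hf.1.mem_of_stronglyClosed sc hv1 hv)).1
    · rw [mem_sm, inv_one, one_smul]; exact (h0 v hv).1
  · obtain ⟨σ, hσ, hσ'⟩ := R.sec hg
    obtain ⟨N, hN, hT, hf⟩ := L.fixN (ZS K) hZ fun s _ z hz => conj_ZS s hz
    obtain ⟨w, hw, ew⟩ := R.torus hσ hg hσ' hT (fun t ht => hN.conj_mem _ (hT ht) g) hc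
    obtain ⟨f, hf, f1, f2⟩ := hf w hw
    have e1 : ∀ x ∈ QQ l, (f x).t = x.t / c := fun x hx => by
      obtain ⟨a, b, e⟩ := R.dec hσ (κ x)
      have h3 := congrArg Prod.fst (f2 x hx)
      have h4 := congrArg Prod.fst e
      rw [e, ew] at h3
      simp only [Prod.fst_add, AddMonoidHom.inr_apply, add_zero] at h3 h4
      exact h3.symm.trans ((hσ _).trans (congrArg (· / c) (h4.trans (hσ a)).symm))
    have e2 : ∀ b, w • AddMonoidHom.inr K K b = AddMonoidHom.inr K K (c * b) := fun b => by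
      simpa using ew 0 b
    obtain ⟨f', hf', i1, i2⟩ := hf.exists_inv
    obtain ⟨g, hg, eg⟩ := hf.extend pgroup hF (normal_of_ZT ZT_le_QQ) fun s _ => by
      let s' : U K := ⟨0, -(c ^ 2 * (l * s.t - s.u)), 0, 0⟩
      have h3 : ∀ x ∈ QQ l, κ (f (s * x * s⁻¹)) = κ (s' * f x * s'⁻¹) := fun x hx => by
        rw [← f2 _ (nQ s x hx), cj s x hx, smul_add, f2 x hx, e2, cj _ _ (hf.2 x hx), e1 x hx]
        congr 2
        simp only [s']; field_simp; ring
      have h4 : Au F (QQ l) fun y => s'⁻¹ * f (s * f' y * s⁻¹) * s'⁻¹⁻¹ :=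
        ((hf'.comp (au_conj le_top (mem_top s) (nQ s))).comp hf).comp
          (au_conj le_top (mem_top s'⁻¹) (nQ _))
      obtain ⟨r, -, er⟩ := h4.eq_conj pgroup hF hE.2.1 hZ (fun z hz hz1 => by
        have h5 : f' z = z := by rw [← f1 z hz hz1, i1 z hz, f1 z hz hz1]
        rw [h5, conj_ZS s hz1, f1 z hz hz1, conj_ZS _ hz1]) fun y hy => ks _ hy _ (h4.2 y hy) (by
          have h6 := e1 _ (hf'.2 y hy)
          rw [i2 y hy] at h6
          rw [cj _ _ (hf.2 _ (nQ _ _ (hf'.2 y hy))), h3 _ (hf'.2 y hy), e1 _ (nQ _ _ (hf'.2 y hy)),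
            i2 y hy, cj _ y hy]
          ext <;> simp [s', ← h6])
      refine ⟨s' * r, trivial, fun x hx => ?_⟩
      have := er _ (hf.2 x hx)
      rw [i1 x hx] at this
      rw [mul_inv_rev, mul_assoc s' r, ← mul_assoc, mul_assoc s', ← this]; group
    refine ⟨g, hg, fun z hz => by rw [eg z (ZS_le hE hz), f1 z (ZS_le hE hz) hz], fun y hy => ?_,
      fun x hx => by rw [eg x hx]; exact ⟨hf.2 x hx, e1 x hx⟩⟩
    have hy' := ZT_le_QQ (l := l) hy
    have h3 : (f y).t = 0 := by rw [e1 y hy', hy.1, zero_div]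
    have h4 := congrArg Prod.snd (f2 y hy')
    rw [show κ y = AddMonoidHom.inr K K (2 * y.a) by ext <;> simp [κ, eta, hy.1], e2] at h4
    simp only [κ, eta, h3, AddMonoidHom.inr_apply] at h4
    rw [eg y hy']
    exact ⟨⟨h3, by rw [mem_QQ.1 (hf.2 y hy'), h3, mul_zero]⟩,
      mul_left_cancel₀ h2 (by linear_combination -h4)⟩

theorem QQ_act (hE : F.IsEssential p (QQ l)) {c : K} (hc : c ≠ 0) : ∃ g, Mor F ⊤ g ∧
    (∀ z ∈ ZS K, g z = z) ∧ (∀ y ∈ ZT K, (g y).a = c * y.a) ∧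
      ∀ x, (g x).t = x.t / c ∧ (g x).u = l * x.t / c + c ^ 2 * (x.u - l * x.t) := by
  obtain ⟨g, hg, g1, g2, g3⟩ := (QQ_loc h2 hF hE).2 c hc
  have A : ∀ y ∈ AA K, (g y).t = 0 ∧ (g y).u = c ^ 2 * y.u := fun y hy => by
    have h1 := g2 ⟨0, 0, 1, 0⟩ ⟨rfl, rfl⟩
    have h3 := congrArg (fun z => (g z).b) (comm_AA hy (y := ⟨0, 0, 1, 0⟩) rfl)
    simp only [hg.map_mul (mem_top _) (mem_top _), U.mul_b, h1.1.1, h1.1.2, h1.2] at h3
    have h4 : (g y).t = 0 := mul_left_cancel₀ (mul_ne_zero h2 hc) (by linear_combination h3)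
    have h5 := (g2 (⟨1, l, 0, 0⟩ * y * (⟨1, l, 0, 0⟩ : U K)⁻¹ * y⁻¹) ⟨by simp, by simp⟩).2
    have h6 := (g3 ⟨1, l, 0, 0⟩ (by simp [mem_QQ])).2
    rw [hg.map_mul (mem_top _) (mem_top _), hg.map_conj (mem_top _) (mem_top _),
      hg.map_inv (mem_top _)] at h5
    simp only [U.mul_a, U.mul_t, U.mul_u, U.inv_a, U.inv_t, U.inv_u, h4, h6, mem_AA.1 hy] at h5
    refine ⟨h4, ?_⟩
    field_simp at h5
    linear_combination h5
  refine ⟨g, hg, g1, fun y hy => (g2 y hy).2, fun x => ?_⟩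
  have h1 := g3 ⟨x.t, l * x.t, 0, 0⟩ rfl
  have h3 := A ((⟨x.t, l * x.t, 0, 0⟩ : U K)⁻¹ * x) (by simp [mem_AA])
  rw [hg.map_mul (mem_top _) (mem_top _), hg.map_inv (mem_top _)] at h3
  simp only [U.mul_t, U.mul_u, U.inv_t, U.inv_u, mem_QQ.1 h1.1, h1.2] at h3
  exact ⟨by linear_combination h3.1, by linear_combination h3.2⟩

theorem QQ_uniq {m : K} (hE : F.IsEssential p (QQ l)) (hE' : F.IsEssential p (QQ m)) : l = m := by
  obtain ⟨g, hg, -, -, e⟩ := QQ_act h2 hF hE (neg_ne_zero.2 one_ne_zero)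
  obtain ⟨g', hg', -, -, e'⟩ := QQ_act h2 hF hE' (neg_ne_zero.2 one_ne_zero)
  obtain ⟨n, hn, s, -, es⟩ := exists_pow_inner pgroup hF (hg'.comp' hg fun _ _ => trivial)
  have A : ∀ (k : ℕ) x, ((fun x => g (g' x))^[k] x).t = x.t ∧
      ((fun x => g (g' x))^[k] x).u = x.u + k * (2 * (l - m)) * x.t := fun k x => by
    induction k with
    | zero => simp
    | succ k ih =>
      rw [Function.iterate_succ_apply']
      simp only [(e _).1, (e _).2, (e' _).1, (e' _).2, ih.1, ih.2]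
      exact ⟨by field_simp, by push_cast; field_simp; ring⟩
  have h3 := (A n ⟨1, 0, 0, 0⟩).2
  rw [es _ trivial] at h3
  simp only [U.mul_u, U.inv_u] at h3
  have h4 : (n : K) ≠ 0 := fun h => hn ((CharP.cast_eq_zero_iff K p n).1 h)
  exact mul_left_cancel₀ (mul_ne_zero h4 h2) (by linear_combination -h3)

theorem not_both (hO : F.core ≠ ⊥) (hA : F.IsEssential p (AA K)) (hE : F.IsEssential p (QQ l)) :
    False := by
  let κ : U K → K × K × K := fun x => (x.u, x.a, x.b)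
  have ks : ∀ w, ∃ x ∈ AA K, κ x = w := fun w => ⟨⟨0, w.1, w.2.1, w.2.2⟩, rfl, rfl⟩
  obtain ⟨H, _, T, L⟩ := exists_loc pgroup hF hA.2.1 κ (fun x hx y _ => by
    ext <;> simp [κ, mem_AA.1 hx]) ks fun f hf x hx e => by
      obtain rfl : x = 1 := U.ext hx (congrArg (·.1) e) (congrArg (·.2.1) e) (congrArg (·.2.2) e)
      rw [hf.1.map_one]; rfl
  have nA : ∀ s : U K, ∀ x ∈ AA K, s * x * s⁻¹ ∈ AA K := fun s x hx => by simpa [mem_AA] using hx
  have cj : ∀ s : U K, ∀ x ∈ AA K, κ (s * x * s⁻¹) = tau s.t (κ x) := fun s x hx => by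
    ext <;> simp [κ, tau, mem_AA.1 hx] <;> ring
  have C : Cub K p T := by
    refine ⟨L.syl, h2, fun t ht => ?_, fun b => ?_⟩
    · obtain ⟨s, -, -, e⟩ := (L.memT t).1 ht
      exact ⟨_, fun v => by obtain ⟨x, hx, rfl⟩ := ks v; rw [e x hx, cj s x hx]⟩
    · obtain ⟨t, e⟩ := L.of_au _ (au_conj le_top (mem_top ⟨b, 0, 0, 0⟩) (nA _))
      exact ⟨t, (L.memT t).2 ⟨_, trivial, nA _, e⟩, fun v => by
        obtain ⟨x, hx, rfl⟩ := ks v; rw [e x hx, cj _ x hx]⟩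
  have hr : ∀ c : K, c ≠ 0 → ∃ r : H, Dg c r := fun c hc => by
    obtain ⟨g, hg, g1, g2, g3⟩ := QQ_act h2 hF hE hc
    obtain ⟨r, e⟩ := L.of_au g ⟨hg.mono le_top, fun x hx => by
      rw [mem_AA, (g3 x).1, mem_AA.1 hx, zero_div]⟩
    refine ⟨r, fun v hv => ?_, fun v => ?_, fun v hv => ?_⟩ <;> obtain ⟨x, hx, rfl⟩ := ks v <;>
      rw [e x hx]
    · rw [g1 x ⟨hx, hv.1, hv.2⟩]
    · simp [κ, (g3 x).2, mem_AA.1 hx]
    · exact g2 x ⟨hx, hv⟩
  have sc := stronglyClosed_of_isNormal (isNormal_core F)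
  have o1 := le_of_isNormal_of_essential pgroup (isNormal_core F) hA
  have o2 := le_of_isNormal_of_essential pgroup (isNormal_core F) hE
  have o3 := (QQ_loc h2 hF hE).1 fun v hv =>
    ⟨o1 hv, by rw [mem_QQ.1 (o2 hv), mem_AA.1 (o1 hv), mul_zero]⟩
  obtain ⟨v, hv, hv1⟩ := (bot_or_exists_ne_one F.core).resolve_left hO
  have h3 := C.main hr (v := κ v) (fun e => hv1 (U.ext (o1 hv) (congrArg (·.1) e)
    (congrArg (·.2.1) e) (congrArg (·.2.2) e))) fun g => by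
      obtain ⟨f, hf, e⟩ := L.to_au g
      rw [e v (o1 hv)]
      exact (o3 _ (hf.1.mem_of_stronglyClosed sc (o1 hv) hv)).2
  obtain ⟨r, hr⟩ := hr (-1) (neg_ne_zero.2 one_ne_zero)
  refine not_flag hF hA (fun f hf x hx h => ?_) fun f hf x hx h => ?_ <;>
    obtain ⟨g, e⟩ := L.of_au f hf
  · have := mem_of_sm_eq (h3 g) (v := κ x) h.2
    rw [e x hx] at this
    exact ⟨hf.2 x hx, this⟩
  · have := mem_of_sm_eq (C.sm_of_norm ((C.ti hr).nrm g (h3 g))).2 (v := κ x) h.2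
    rw [e x hx] at this
    exact ⟨hf.2 x hx, this⟩

theorem main_odd (hO : F.core ≠ ⊥) : F.IsConstrained p :=
  constrained_of_unique pgroup hF fun R R' hR hR' => by
    rcases ess_cases h2 hF hO hR with rfl | ⟨l, rfl⟩ <;>
      rcases ess_cases h2 hF hO hR' with rfl | ⟨m, rfl⟩
    · rfl
    · exact (not_both h2 hF hO hR hR').elim
    · exact (not_both h2 hF hO hR' hR).elim
    · rw [QQ_uniq h2 hF hR hR']

end CfsgLib.ExSp4
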