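import Cfsg.Agent.Lib.ExSp4.Cmp
import Cfsg.Agent.Lib.TwoGrp.FusCmp
import Cfsg.Agent.Lib.Classical.SLCard

/-! Realizing the standard fusion systems. -/

set_option autoImplicit false

namespace CfsgLib.ExSp4

open Subgroup Cfsg Cfsg.FusionSystem CfsgLib.Fusion CfsgLib.TwoGrp

variable {K : Type*} [Field K] [CharP K 2] [Finite K]

omit [Finite K] in
theorem iso_ZT (θ : U K ≃* U K) (x : U K) : θ x ∈ ZT K ↔ x ∈ ZT K :=
  ⟨fun h => ZT_of_cen fun y => θ.injective (by rw [map_mul, map_mul, cen_ZT h]),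
    fun h => ZT_of_cen fun y => by
      obtain ⟨y, rfl⟩ := θ.surjective y
      rw [← map_mul, cen_ZT h, map_mul]⟩

theorem exists_real {G : Type*} [Group G] [Finite G] (j : U K →* G) (hj : Function.Injective j)
    (hi : ¬ 2 ∣ j.range.index)
    (hn : ∀ E, E = QQ 0 ∨ E = AA K → ∃ n : G, (∀ x ∈ E, ∃ y ∈ E, n * j x * n⁻¹ = j y) ∧
      ∃ x ∈ ZT K, ∃ y ∉ ZT K, n * j x * n⁻¹ = j y)
    {v : U K} (h0 : v ≠ 1) (hv : ∀ g y, g * j v * g⁻¹ = j y → y ∈ ZT K) :
    ∃ E : FusionSystem (⊤ : Subgroup (U K)), Std E ∧ E.IsRealizable 2 ∧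
      ((∀ g, g * j v * g⁻¹ = j v) → ∀ c d : K, c ≠ 0 → Mor E ⊤ (dg c d) → c = d) ∧
      ∀ (g : G) (f : U K → U K), (∀ x, g * j x * g⁻¹ = j (f x)) → (∃ x ∉ ZT K, x⁻¹ * f x ∈ ZT K) →
        (∃ x, x⁻¹ * f x ∉ ZT K) → ∃ c d : K, c ≠ 0 ∧ d ≠ 0 ∧ c ≠ d ∧ Mor E ⊤ (dg c d) := by
  have hp : IsPGroup 2 j.range := MonoidHom.range_eq_map j ▸ (pgroup (K := K) (p := 2)).map j
  obtain ⟨F, P⟩ := exists_pull (S := ⊤) (hp.toSylow hi) (isHomOn_coe ⊤ j) hj.injOn
    (by rw [img_coe, IsPGroup.toSylow_coe, MonoidHom.range_eq_map])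
  have lift : ∀ (E : Subgroup (U K)) (g : G), (∀ x ∈ E, ∃ y, g * j x * g⁻¹ = j y) →
      ∃ f, Mor F E f ∧ ∀ x ∈ E, j (f x) = g * j x * g⁻¹ := fun E g h =>
    P.lift le_top fun x hx => (h x hx).imp fun _ => Eq.symm
  have mv : ∀ E, E = QQ 0 ∨ E = AA K → ¬ Ivt F E (ZT K) := fun E hE h => by
    obtain ⟨n, h1, x, hx, y, hy, e⟩ := hn E hE
    obtain ⟨f, hf, ef⟩ := lift E n fun x hx => (h1 x hx).imp fun _ h => h.2
    have h2 : x ∈ E := by rcases hE with rfl | rfl; exacts [ZT_le_QQ hx, hx.1]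
    refine hy (hj ((ef x h2).trans e) ▸ h f ⟨hf, fun x hx => ?_⟩ x h2 hx)
    obtain ⟨y, hy, e⟩ := h1 x hx
    rwa [hj ((ef x hx).trans e)]
  obtain ⟨θ, E, h, hE, hθ⟩ := exists_std P.saturated (mv _ (Or.inl rfl)) (mv _ (Or.inr rfl))
    (fun Q f hf hQ => (P.mor hf).elim fun g e => hv g _ (e v hQ).symm) h0
  refine ⟨E, hE, isRealizable_of_iso (tr_symm h) P.realIn.isRealizable, fun h1 c d hc hm => ?_,
    fun g f e ⟨x, hx, hx'⟩ ⟨y, hy⟩ => ?_⟩
  · obtain ⟨g, e⟩ := P.mor (tr_mor (tr_symm h) (E' := ⊤) (E := ⊤) (fun _ _ => trivial) hm)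
    have h2 := congrArg (fun x => (θ x).b) (hj ((e v trivial).trans (h1 g)))
    have h3 : (θ v).b ≠ 0 := fun h => h0 (θ.injective (by
      rw [map_one]; exact U.ext hθ.1 hθ.2.1 hθ.2.2 h))
    simp only [MulEquiv.symm_symm, MulEquiv.apply_symm_apply, dg] at h2
    have h4 : c ^ 2 * d = 1 := mul_right_cancel₀ h3 (by rw [h2, one_mul])
    exact mul_left_cancel₀ (pow_ne_zero 2 hc) (by linear_combination hE.cube c hc - h4)
  · obtain ⟨f', hf, ef⟩ := lift ⊤ g fun x _ => ⟨_, e x⟩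
    have h1 := tr_mor h (E' := ⊤) (E := ⊤) (fun _ _ => trivial)
      (hf.congr fun x hx => hj ((ef x hx).trans (e x)))
    obtain ⟨s, c, d, hc, hd, es⟩ := hE.aut h1
    refine ⟨c, d, hc, hd, ?_, (h1.conj_left (mem_top s)).congr fun x _ => es x⟩
    rintro rfl
    have A : ∀ x, x⁻¹ * f x ∈ ZT K ↔ (c - 1) * (θ x).t = 0 ∧ (c - 1) * (θ x).u = 0 := fun x => by
      have a1 := congrArg U.t (es (θ x))
      have a2 := congrArg U.u (es (θ x))
      simp only [U.mul_t, U.mul_u, U.inv_t, U.inv_u, MulEquiv.symm_apply_apply, dg] at a1 a2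
      rw [← iso_ZT θ, map_mul, map_inv, mem_ZT]
      simp only [U.mul_t, U.mul_u, U.inv_t, U.inv_u]
      exact and_congr ⟨fun h => by linear_combination h - a1, fun h => by linear_combination h + a1⟩
        ⟨fun h => by linear_combination h - a2, fun h => by linear_combination h + a2⟩
    by_cases h2 : c - 1 = 0
    · exact hy ((A y).2 (by simp [h2]))
    · exact hx ((iso_ZT θ x).1 (by simpa [h2, mem_ZT] using (A x).1 hx'))

/-- Unitriangular matrices. -/
def ut (a b c : K) : Matrix.SpecialLinearGroup (Fin 3) K :=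
  ⟨!![1, a, c; 0, 1, b; 0, 0, 1], by simp [Matrix.det_fin_three]⟩

theorem real_two (hK : ∀ t : K, t = 0 ∨ t = 1) :
    ∃ E : FusionSystem (⊤ : Subgroup (U K)), Std E ∧ E.IsRealizable 2 := by
  have := Fintype.ofFinite K
  have h2 := CharTwo.two_eq_zero (R := K)
  have hc : Fintype.card K = 2 := by
    classical
    rw [← Finset.card_univ, ← Finset.card_pair (zero_ne_one' K)]
    congr 1; ext t; simpa using hK t
  have sq : ∀ t : K, t ^ 2 = t := fun t => by rcases hK t with rfl | rfl <;> simp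
  let j : U K →* Matrix.SpecialLinearGroup (Fin 3) K × Multiplicative K := MonoidHom.mk'
    (fun x => (ut x.t x.u x.a, Multiplicative.ofAdd (x.a + x.b))) fun x y => by
      refine Prod.ext (Subtype.ext (Matrix.ext fun i j => ?_)) ?_
      · rw [Prod.fst_mul, Matrix.SpecialLinearGroup.coe_mul]
        fin_cases i <;> fin_cases j <;> simp [ut, Matrix.mul_apply, Fin.sum_univ_three] <;> ring
      · rw [Prod.snd_mul, ← ofAdd_add]
        refine congrArg Multiplicative.ofAdd ?_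
        simp only [U.mul_a, U.mul_b, sq]
        linear_combination (x.t * y.u + x.t * y.a) * h2
  have inj : ∀ {x y : U K}, ut x.t x.u x.a = ut y.t y.u y.a → x.t = y.t ∧ x.u = y.u ∧ x.a = y.a :=
    fun h => ⟨congrArg (·.1 0 1) h, congrArg (·.1 1 2) h, congrArg (·.1 0 2) h⟩
  have hj : Function.Injective j := fun x y h => by
    obtain ⟨h3, h4, h5⟩ := inj (congrArg Prod.fst h)
    have h6 : x.a + x.b = y.a + y.b := Multiplicative.ofAdd.injective (congrArg Prod.snd h)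
    exact U.ext h3 h4 h5 (by linear_combination h6 - h5)
  have cj : ∀ (n : Matrix.SpecialLinearGroup (Fin 3) K) (x y : U K), x.a + x.b = y.a + y.b →
      n.1 * (ut x.t x.u x.a).1 = (ut y.t y.u y.a).1 * n.1 → (n, 1) * j x * (n, 1)⁻¹ = j y :=
    fun n x y h1 h3 => mul_inv_eq_iff_eq_mul.2 (Prod.ext (Subtype.ext h3) (by
      simpa [j] using congrArg Multiplicative.ofAdd h1))
  have cen : ∀ g, g * j ⟨0, 0, 0, 1⟩ * g⁻¹ = j ⟨0, 0, 0, 1⟩ := fun g => by
    have : (j ⟨0, 0, 0, 1⟩).1 = 1 := Subtype.ext (Matrix.ext fun i j => by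
      fin_cases i <;> fin_cases j <;> rfl)
    ext <;> simp [this]
  obtain ⟨E, h3, h4, -⟩ := exists_real j hj (by
      have := j.range.card_mul_index
      rw [← Nat.card_congr (MonoidHom.ofInjective hj).toEquiv, U.card, Nat.card_prod,
        Classical.sl3_card, Nat.card_congr Multiplicative.toAdd, Nat.card_eq_fintype_card, hc] at this
      omega) (by
      rintro E (rfl | rfl)
      · have e : ∀ x ∈ QQ (0 : K), _ = j ⟨x.a, 0, x.t, x.a + x.b + x.t⟩ := fun x hx =>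
          cj ⟨!![1, 0, 0; 0, 0, 1; 0, 1, 0], by simp [Matrix.det_fin_three, CharTwo.neg_eq]⟩ x
            ⟨x.a, 0, x.t, x.a + x.b + x.t⟩ (by simp only; linear_combination -x.t * h2) (by
              refine Matrix.ext fun i j => ?_
              fin_cases i <;> fin_cases j <;>
                simp [ut, Matrix.mul_apply, Fin.sum_univ_three, mem_QQ.1 hx])
        exact ⟨_, fun x hx => ⟨_, by simp [mem_QQ], e x hx⟩, ⟨0, 0, 1, 0⟩, ⟨rfl, rfl⟩, _,
          fun h => one_ne_zero h.1, e _ (by simp [mem_QQ])⟩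
      · have e : ∀ x ∈ AA K, _ = j ⟨0, x.a, x.u, x.a + x.b + x.u⟩ := fun x hx =>
          cj ⟨!![0, 1, 0; 1, 0, 0; 0, 0, 1], by simp [Matrix.det_fin_three, CharTwo.neg_eq]⟩ x
            ⟨0, x.a, x.u, x.a + x.b + x.u⟩ (by simp only; linear_combination -x.u * h2) (by
              refine Matrix.ext fun i j => ?_
              fin_cases i <;> fin_cases j <;>
                simp [ut, Matrix.mul_apply, Fin.sum_univ_three, mem_AA.1 hx])
        exact ⟨_, fun x hx => ⟨_, rfl, e x hx⟩, ⟨0, 0, 1, 0⟩, ⟨rfl, rfl⟩, _,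
          fun h => one_ne_zero h.2, e _ rfl⟩)
    (v := ⟨0, 0, 0, 1⟩) (fun h => one_ne_zero (congrArg U.b h)) fun g y h => by
      rw [← hj ((cen g).symm.trans h)]; exact ⟨rfl, rfl⟩
  exact ⟨E, h3, h4⟩

end CfsgLib.ExSp4
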