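import Cfsg.Agent.Lib.ExSp4.Even
import Cfsg.Agent.Lib.Fusion.Iso

/-! Fusion systems over the Sylow subgroup of `Sp(4, K)` in characteristic two: normal forms. -/

set_option autoImplicit false

namespace CfsgLib.ExSp4

open Subgroup Cfsg Cfsg.FusionSystem CfsgLib.Fusion

section Tr

variable {Ω Ω' : Type*} [Group Ω] [Group Ω'] {F : FusionSystem (⊤ : Subgroup Ω)}
  {F' : FusionSystem (⊤ : Subgroup Ω')} {θ : Ω ≃* Ω'} {E X : Subgroup Ω} {E' X' : Subgroup Ω'}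

theorem exists_tr [Finite Ω] (F : FusionSystem (⊤ : Subgroup Ω)) (θ : Ω ≃* Ω') :
    ∃ F' : FusionSystem (⊤ : Subgroup Ω'), IsFactor F ⊥ θ F' :=
  exists_isFactor (isHomOn_coe ⊤ θ.toMonoidHom) (stronglyClosed_bot F) (fun x _ => by simp)
    (top_le_iff.1 fun y _ => by simpa using mem_img_of_mem θ (mem_top (θ.symm y)))

variable (h : IsFactor F ⊥ θ F')
include h

theorem tr_symm : IsFactor F' ⊥ θ.symm F := by
  obtain ⟨t, h1, h2, -⟩ := h.iso_symm
  obtain rfl : t = θ.symm := funext fun y => by simpa using h2 (θ.symm y) trivial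
  exact h1

theorem tr_mor {f : Ω → Ω} (e : ∀ x, θ x ∈ E' → x ∈ E) (hf : Mor F E f) :
    Mor F' E' fun y => θ (f (θ.symm y)) :=
  (h.iso_mor hf (by simp)).mono fun y hy => by
    simpa using mem_img_of_mem θ (e (θ.symm y) (by simpa using hy))

theorem tr_au {f : Ω → Ω} (e : ∀ x, θ x ∈ E' ↔ x ∈ E) (hf : Au F E f) :
    Au F' E' fun y => θ (f (θ.symm y)) :=
  ⟨tr_mor h (fun x => (e x).1) hf.1, fun y hy => (e _).2 (hf.2 _ ((e _).1 (by simpa using hy)))⟩

theorem tr_ivt (e : ∀ x, θ x ∈ E' ↔ x ∈ E) (e' : ∀ x, θ x ∈ X' ↔ x ∈ X) :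
    Ivt F' E' X' ↔ Ivt F E X := by
  refine ⟨fun H f hf x hx hx' => ?_, fun H f hf y hy hy' => ?_⟩
  · simpa [e'] using H _ (tr_au h e hf) (θ x) ((e x).2 hx) ((e' x).2 hx')
  · have := H _ (tr_au (tr_symm h) (E' := E) (fun y => by rw [← e]; simp) hf) (θ.symm y)
      ((e _).1 (by simpa using hy)) ((e' _).1 (by simpa using hy'))
    simpa [← e'] using this

end Tr

variable {K : Type*} [Field K]

/-- The diagonal automorphisms. -/
def dg (c d : K) (x : U K) : U K := ⟨c * x.t, d * x.u, c * d * x.a, c ^ 2 * d * x.b⟩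

theorem dg_mul (c d : K) (x y : U K) : dg c d (x * y) = dg c d x * dg c d y := by
  ext <;> simp [dg] <;> ring

theorem dg_dg (c d c' d' : K) (x : U K) : dg c d (dg c' d' x) = dg (c * c') (d * d') x := by
  ext <;> simp [dg] <;> ring

theorem comm_a {x y : U K} (h : x * y = y * x) : x.t * y.u = y.t * x.u := by
  have := congrArg U.a h
  simp only [U.mul_a] at this
  linear_combination this

variable [CharP K 2]

theorem four (h3 : ∀ s : K, s ≠ 0 → s ^ 3 = 1) {w : K} (h0 : w ≠ 0) (h1 : w ≠ 1) :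
    w ^ 2 = w + 1 ∧ ∀ y : K, y = 0 ∨ y = 1 ∨ y = w ∨ y = w + 1 := by
  have h2 := CharTwo.two_eq_zero (R := K)
  have e : w ^ 2 = w + 1 := mul_left_cancel₀ (sub_ne_zero.2 h1) (by
    linear_combination h3 w h0 - (w ^ 2 - 1) * h2)
  refine ⟨e, fun y => ?_⟩
  by_contra! h
  refine mul_ne_zero (sub_ne_zero.2 h.2.1) (mul_ne_zero (sub_ne_zero.2 h.2.2.1)
    (sub_ne_zero.2 h.2.2.2)) ?_
  linear_combination h3 y h.1 + (y - 1) * e + (-y ^ 2 * w - y ^ 2 + 2 * y * w + y - w) * h2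

theorem scalar (h3 : ∀ s : K, s ≠ 0 → s ^ 3 = 1) (α : K →+ K) {n : ℕ} (hn : ¬ 2 ∣ n)
    (h : ∀ x, α^[n] x = x) : ∃ c, c ≠ 0 ∧ ∀ x, α x = c * x := by
  have h2 := CharTwo.two_eq_zero (R := K)
  obtain ⟨k, rfl⟩ : ∃ k, n = 2 * k + 1 := ⟨n / 2, by omega⟩
  have hi : Function.Injective α := fun x y e => by
    rw [← h x, ← h y, Function.iterate_succ_apply, Function.iterate_succ_apply, e]
  have hc : α 1 ≠ 0 := fun e => one_ne_zero (hi (e.trans α.map_zero.symm))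
  refine ⟨_, hc, fun w => by_contra fun hw => ?_⟩
  have h0 : w ≠ 0 := fun e => hw (by simp [e])
  have h1 : w ≠ 1 := fun e => hw (by simp [e])
  obtain ⟨e, A⟩ := four h3 h0 h1
  have h4 : α w = α 1 * (w + 1) := by
    rcases A (α w / α 1) with h | h | h | h <;> rw [div_eq_iff hc] at h
    · exact (h0 (hi (by simpa using h))).elim
    · exact (h1 (hi (by simpa using h))).elim
    · exact (hw (by rw [h, mul_comm])).elim
    · rw [h, mul_comm]
  have h5 : ∀ y, α y = α 1 * y ^ 2 := fun y => by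
    rcases A y with rfl | rfl | rfl | rfl
    · simp
    · simp
    · rw [h4, e]
    · rw [map_add, h4]; linear_combination -α 1 * e - α 1 * w * h2
  have h6 : α^[2] = id := funext fun y => by
    by_cases hy : y = 0
    · simp [hy]
    · change α (α y) = y
      rw [h5 (α y), h5 y]
      linear_combination y ^ 4 * h3 _ hc + y * h3 y hy
  have h7 : ∀ y, α y = y := fun y => by
    have := h y
    rwa [Function.iterate_succ_apply, Function.iterate_mul, h6, Function.iterate_id] at this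
  rw [h7, h7] at h4
  simp at h4

theorem cen_ZT {x : U K} (hx : x ∈ ZT K) (y : U K) : x * y = y * x := by
  ext <;> simp [hx.1, hx.2, add_comm, CharTwo.two_eq_zero]

omit [CharP K 2] in
theorem ZT_of_cen {x : U K} (h : ∀ y, x * y = y * x) : x ∈ ZT K :=
  ⟨by simpa using comm_a (h ⟨0, 1, 0, 0⟩), by simpa using (comm_a (h ⟨1, 0, 0, 0⟩)).symm⟩

theorem comm_Q0 {x y : U K} (hx : x ∈ QQ (0 : K)) (hy : y ∈ QQ (0 : K)) : x * y = y * x := by
  ext <;> simp [mem_QQ.1 hx, mem_QQ.1 hy, add_comm, CharTwo.two_eq_zero]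

theorem sq_eq_one_iff {x : U K} : x * x = 1 ↔ x.t = 0 ∨ x.u = 0 := by
  have h2 := CharTwo.two_eq_zero (R := K)
  refine ⟨fun h => ?_, fun h => ?_⟩
  · have := congrArg U.a h
    simp only [U.mul_a, U.one_a] at this
    exact mul_eq_zero.1 (by linear_combination this - x.a * h2)
  · rcases h with h | h <;> ext <;> simp [h, h2, CharTwo.add_self_eq_zero]

variable [Finite K] {F F' : FusionSystem (⊤ : Subgroup (U K))} {E : Subgroup (U K)}
  {f : U K → U K} (hF : F.IsSaturated 2)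

theorem mor_ZT (hf : Mor F ⊤ f) {x : U K} : f x ∈ ZT K ↔ x ∈ ZT K := by
  have A : ∀ f, Mor F ⊤ f → ∀ x ∈ ZT K, f x ∈ ZT K := fun f hf x hx =>
    ZT_of_cen fun y => (au_top hf).cent (mem_top x) (fun y _ => cen_ZT hx y) y trivial
  obtain ⟨g, hg, e, -⟩ := (au_top hf).exists_inv
  exact ⟨fun h => e x trivial ▸ A g hg.1 _ h, A f hf x⟩

include hF

theorem not_ivt (hE : F.IsEssential 2 E) : ¬ Ivt F E (ZT K) := fun h =>
  essential_ne_top pgroup hF hE (top_le_iff.1 (le_of_flag pgroup hE h h le_top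
    (le_top.trans (normal_of_ZT le_top)) fun a _ x _ => ⟨⟨by simp, by simp⟩, fun _ =>
      ⟨by simp, by simp⟩, fun hx => by rw [← cen_ZT hx, mul_inv_cancel_right]⟩))

theorem ess_two (hE : F.IsEssential 2 E) : E = QQ 0 ∨ E = AA K := by
  by_contra! h
  obtain ⟨x, hx, hx'⟩ := SetLike.not_le_iff_exists.1 fun e : E ≤ QQ 0 => h.1 (le_antisymm e
    fun _ hz => essential_mem_of_comm hE trivial fun _ hx => comm_Q0 (e hx) hz)
  obtain ⟨y, hy, hy'⟩ := SetLike.not_le_iff_exists.1 fun e => h.2 (eq_AA hE e)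
  obtain ⟨m, hm, h1, h2⟩ : ∃ m ∈ E, m.t ≠ 0 ∧ m.u ≠ 0 := by
    rw [mem_QQ, zero_mul] at hx'
    by_cases h3 : x.t = 0
    · by_cases h4 : y.u = 0
      · exact ⟨x * y, E.mul_mem hx hy, by simpa [h3, mem_AA] using hy', by simpa [h4] using hx'⟩
      · exact ⟨y, hy, hy', h4⟩
    · exact ⟨x, hx, h3, hx'⟩
  refine not_ivt hF hE fun f hf z hz hz' => ?_
  have h3 := comm_a (hf.cent hz (fun y _ => cen_ZT hz' y) m hm)
  have h4 : f z * f z = 1 := by
    rw [← hf.1.map_mul hz hz, sq_eq_one_iff.2 (Or.inl hz'.1), hf.1.map_one]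
  rcases sq_eq_one_iff.1 h4 with h5 | h5
  · exact ⟨h5, by simpa [h5, h1] using h3⟩
  · exact ⟨by simpa [h5, h2] using h3, h5⟩

theorem mor_E (hf : Mor F ⊤ f) :
    (∀ x : U K, x.u = 0 → (f x).u = 0) ∧ ∀ x : U K, x.t = 0 → (f x).t = 0 := by
  have A : ∀ x y, x * y = y * x → (f x).t * (f y).u = (f y).t * (f x).u := fun x y h =>
    comm_a (by rw [← hf.map_mul trivial trivial, h, hf.map_mul trivial trivial])
  have B : ∀ x : U K, x.t = 0 ∨ x.u = 0 → (f x).t = 0 ∨ (f x).u = 0 := fun x h =>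
    sq_eq_one_iff.1 (by rw [← hf.map_mul trivial trivial, sq_eq_one_iff.2 h, hf.map_one])
  have a1 : ∀ x : U K, x.u = 0 → _ := fun x hx =>
    A x ⟨1, 0, 0, 0⟩ (comm_Q0 (by simpa [mem_QQ] using hx) (by simp [mem_QQ]))
  have a2 : ∀ x : U K, x.t = 0 → _ := fun x hx => A x ⟨0, 1, 0, 0⟩ (comm_AA hx rfl)
  have n1 : ¬ ((f ⟨1, 0, 0, 0⟩).t = 0 ∧ (f ⟨1, 0, 0, 0⟩).u = 0) := fun h =>
    one_ne_zero ((mor_ZT hf).1 h).1
  have n2 : ¬ ((f ⟨0, 1, 0, 0⟩).t = 0 ∧ (f ⟨0, 1, 0, 0⟩).u = 0) := fun h =>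
    one_ne_zero ((mor_ZT hf).1 h).2
  have n3 : f ⟨1, 0, 0, 0⟩ * f ⟨0, 1, 0, 0⟩ ≠ f ⟨0, 1, 0, 0⟩ * f ⟨1, 0, 0, 0⟩ := fun h => by
    rw [← hf.map_mul trivial trivial, ← hf.map_mul trivial trivial] at h
    simpa using comm_a (hf.inj trivial trivial h)
  rcases B ⟨1, 0, 0, 0⟩ (Or.inr rfl) with h1 | h1 <;> rcases B ⟨0, 1, 0, 0⟩ (Or.inl rfl) with h2 | h2
  · exact (n3 (comm_AA h1 h2)).elim
  · obtain ⟨n, hn, s, -, e⟩ := exists_pow_inner pgroup hF hf
    have C : ∀ k, (f^[2 * k + 1] ⟨1, 0, 0, 0⟩).t = 0 := fun k => by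
      induction k with
      | zero => exact h1
      | succ k ih =>
        rw [show 2 * (k + 1) + 1 = 2 * k + 1 + 1 + 1 by ring, Function.iterate_succ_apply',
          Function.iterate_succ_apply']
        have h3 := a2 _ ih
        rw [h2, mul_zero, eq_comm, mul_eq_zero, or_iff_right fun h => n2 ⟨h, h2⟩] at h3
        simpa [h1, show (f ⟨1, 0, 0, 0⟩).u ≠ 0 from fun h => n1 ⟨h1, h⟩] using a1 _ h3
    have := C (n / 2)
    rw [show 2 * (n / 2) + 1 = n by omega, e _ trivial] at this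
    simp at this
  · exact ⟨fun x hx => by simpa [h1, show (f ⟨1, 0, 0, 0⟩).t ≠ 0 from fun h => n1 ⟨h, h1⟩] using a1 x hx,
      fun x hx => by simpa [h2, show (f ⟨0, 1, 0, 0⟩).u ≠ 0 from fun h => n2 ⟨h2, h⟩] using a2 x hx⟩
  · exact (n3 (comm_Q0 (by simpa [mem_QQ] using h1) (by simpa [mem_QQ] using h2))).elim

theorem mor_tu (h3 : ∀ s : K, s ≠ 0 → s ^ 3 = 1) (hf : Mor F ⊤ f) :
    ∃ c d, c ≠ 0 ∧ d ≠ 0 ∧ ∀ x, (f x).t = c * x.t ∧ (f x).u = d * x.u := by
  obtain ⟨n, hn, s, -, e⟩ := exists_pow_inner pgroup hF hf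
  obtain ⟨h1, h2⟩ := mor_E hF hf
  have A : ∀ (π : U K → K) (ι : K → U K), (∀ x y, π (x * y) = π x + π y) → (∀ x, π (ι x) = x) →
      (∀ x, π x = 0 → π (f x) = 0) → ∃ c, c ≠ 0 ∧ ∀ x, π (f x) = c * π x := fun π ι p1 p2 p3 => by
    have p4 : π 1 = 0 := by simpa using p1 1 1
    have p5 : ∀ x, π x⁻¹ = -π x := fun x => eq_neg_of_add_eq_zero_left (by
      rw [← p1, inv_mul_cancel, p4])
    have p6 : ∀ x, π (f (ι (π x))) = π (f x) := fun x => by
      have := p3 (x⁻¹ * ι (π x)) (by rw [p1, p5, p2, neg_add_cancel])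
      rw [hf.map_mul trivial trivial, hf.map_inv trivial, p1, p5] at this
      exact (neg_add_eq_zero.1 this).symm
    let α : K →+ K := AddMonoidHom.mk' (fun t => π (f (ι t))) fun a b => by
      rw [← p1, ← hf.map_mul trivial trivial, ← p6 (ι a * ι b), p1, p2, p2]
    have p7 : ∀ k x, α^[k] (π x) = π (f^[k] x) := fun k x => by
      induction k with
      | zero => rfl
      | succ k ih => rw [Function.iterate_succ_apply', Function.iterate_succ_apply', ih]; exact p6 _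
    obtain ⟨c, hc, ec⟩ := scalar h3 α hn fun x => by
      have := p7 n (ι x)
      rwa [e _ trivial, p1, p1, p5, p2, add_comm (π s), add_neg_cancel_right] at this
    exact ⟨c, hc, fun x => (p6 x).symm.trans (ec _)⟩
  obtain ⟨c, hc, ec⟩ := A U.t (fun t => ⟨t, 0, 0, 0⟩) (fun _ _ => rfl) (fun _ => rfl) h2
  obtain ⟨d, hd, ed⟩ := A U.u (fun t => ⟨0, t, 0, 0⟩) (fun _ _ => rfl) (fun _ => rfl) h1
  exact ⟨c, d, hc, hd, fun x => ⟨ec x, ed x⟩⟩

omit hF [Finite K] in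
theorem mor_Z (h3 : ∀ s : K, s ≠ 0 → s ^ 3 = 1) (hf : Mor F ⊤ f) (hZ : ∀ x ∈ ZS K, f x ∈ ZS K)
    {c d : K} (hc : c ≠ 0) (hd : d ≠ 0) (h : ∀ x, (f x).t = c * x.t ∧ (f x).u = d * x.u) :
    ∀ x ∈ ZT K, f x = dg c d x := by
  have h2 := CharTwo.two_eq_zero (R := K)
  have A : ∀ t u : K, f ⟨0, 0, t * u, t ^ 2 * u⟩ = dg c d ⟨0, 0, t * u, t ^ 2 * u⟩ := fun t u => by
    have e : (⟨0, 0, t * u, t ^ 2 * u⟩ : U K) * ⟨0, u, 0, 0⟩ * ⟨t, 0, 0, 0⟩ =
      ⟨t, 0, 0, 0⟩ * ⟨0, u, 0, 0⟩ := by ext <;> simp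
    replace e := congrArg f e
    simp only [hf.map_mul trivial trivial] at e
    have ea := congrArg U.a e
    have eb := congrArg U.b e
    simp only [U.mul_a, U.mul_b, U.mul_t, (h _).1, (h _).2, h2] at ea eb
    ext <;> simp only [dg, (h _).1, (h _).2]
    · linear_combination ea
    · linear_combination eb
  have B : ∀ b : K, f ⟨0, 0, 0, b⟩ = dg c d ⟨0, 0, 0, b⟩ := fun b => by
    by_cases hK : ∀ w : K, w = 0 ∨ w = 1
    · have h4 := hZ ⟨0, 0, 0, b⟩ ⟨rfl, rfl, rfl⟩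
      obtain rfl := (hK c).resolve_left hc
      obtain rfl := (hK d).resolve_left hd
      rcases hK b with rfl | rfl
      · exact hf.map_one.trans (by ext <;> simp [dg])
      · refine U.ext (by simpa [dg] using h4.1) (by simpa [dg] using h4.2.1)
          (by simpa [dg] using h4.2.2) ?_
        rcases hK (f ⟨0, 0, 0, 1⟩).b with h5 | h5
        · simpa using congrArg U.b (hf.eq_one trivial (U.ext h4.1 h4.2.1 h4.2.2 h5))
        · simpa [dg] using h5
    · push Not at hK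
      obtain ⟨w, h0, h1⟩ := hK
      have e := (four h3 h0 h1).1
      have : (⟨0, 0, 0, b⟩ : U K) = ⟨0, 0, w * b, w ^ 2 * b⟩ * ⟨0, 0, 1 * (w * b), 1 ^ 2 * (w * b)⟩ := by
        ext <;> simp
        · linear_combination -(w * b) * h2
        · linear_combination -b * e - (w * b) * h2
      rw [this, hf.map_mul trivial trivial, A, A, dg_mul]
  intro x hx
  have : x = ⟨0, 0, 1 * x.a, 1 ^ 2 * x.a⟩ * ⟨0, 0, 0, x.a + x.b⟩ := by
    ext <;> simp [hx.1, hx.2, ← add_assoc, CharTwo.add_self_eq_zero]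
  rw [this, hf.map_mul trivial trivial, A, B, dg_mul]

end CfsgLib.ExSp4
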