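import Mathlib
import Cfsg.Agent.Lib.Fusion.SylIn

/-! Finite groups acting on a finite abelian group with a Sylow subgroup whose nonidentity
elements have the same fixed points; the rank one lemma (generation of `SL₂`). -/

set_option autoImplicit false

namespace CfsgLib.ExSp4

open Subgroup CfsgLib.Fusion
open scoped Pointwise

variable {H W : Type*} [Group H] [AddCommGroup W] [DistribMulAction H W] {p : ℕ}
  {T : Subgroup H} {Z Y : AddSubgroup W} {g h k t : H} {v e : W}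

theorem mem_sm : v ∈ g • Z ↔ g⁻¹ • v ∈ Z := AddSubgroup.mem_pointwise_smul_iff_inv_smul_mem

theorem sm_mem_sm : g • v ∈ g • Z ↔ v ∈ Z := by rw [mem_sm, inv_smul_smul]

theorem card_sm (g : H) (Z : AddSubgroup W) : Nat.card (g • Z : AddSubgroup W) = Nat.card Z :=
  Nat.card_congr
    { toFun := fun v => ⟨g⁻¹ • v.1, mem_sm.1 v.2⟩
      invFun := fun v => ⟨g • v.1, sm_mem_sm.2 v.2⟩
      left_inv := fun v => Subtype.ext (smul_inv_smul _ _)
      right_inv := fun v => Subtype.ext (inv_smul_smul _ _) }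

theorem sm_inf (g : H) (Y Z : AddSubgroup W) : g • (Y ⊓ Z) = g • Y ⊓ g • Z := by
  ext v; simp only [mem_sm, AddSubgroup.mem_inf]

theorem sm_eq_of_mem [Finite W] (h : ∀ v ∈ Z, g • v ∈ Z) : g • Z = Z :=
  AddSubgroup.eq_of_le_of_card_ge (fun v hv => by
    simpa using h _ (mem_sm.1 hv)) (card_sm g Z).ge

theorem mem_of_sm_eq (h : g • Z = Z) (hv : v ∈ Z) : g • v ∈ Z := h ▸ sm_mem_sm.2 hv

theorem inv_sm_eq (h : g • Z = Z) : g⁻¹ • Z = Z := by rw [inv_smul_eq_iff, h]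

theorem exists_not_mem [Finite W] (hc : Nat.card Y = Nat.card Z) (h : Y ≠ Z) :
    ∃ v ∈ Y, v ∉ Z := by
  by_contra! H
  exact h (AddSubgroup.eq_of_le_of_card_ge H hc.ge)

theorem pow_smul_eq {y : W} (h1 : g • v = v + y) (h2 : g • y = y) (n : ℕ) :
    g ^ n • v = v + n • y := by
  induction n with
  | zero => simp
  | succ n ih => rw [pow_succ', mul_smul, ih, smul_add, h1, smul_comm g n y, h2, succ_nsmul]; abel

/-- The stabilizer of the flag `0 ≤ Z ≤ Y ≤ W`. -/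
def flag (H : Type*) [Group H] [DistribMulAction H W] (Z Y : AddSubgroup W) : Subgroup H where
  carrier := {g | (∀ v ∈ Z, g • v = v) ∧ (∀ v ∈ Y, g • v - v ∈ Z) ∧ g • Y = Y ∧
    ∀ v, g • v - v ∈ Y}
  one_mem' := by simp
  mul_mem' := by
    rintro a b ⟨a1, a2, a3, a4⟩ ⟨b1, b2, b3, b4⟩
    refine ⟨fun v hv => by rw [mul_smul, b1 v hv, a1 v hv], fun v hv => ?_,
      by rw [mul_smul, b3, a3], fun v => ?_⟩
    · have := Z.add_mem (a2 _ (mem_of_sm_eq b3 hv)) (b2 v hv)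
      rwa [sub_add_sub_cancel, ← mul_smul] at this
    · have := Y.add_mem (a4 (b • v)) (b4 v)
      rwa [sub_add_sub_cancel, ← mul_smul] at this
  inv_mem' := by
    rintro a ⟨a1, a2, a3, a4⟩
    refine ⟨fun v hv => by rw [inv_smul_eq_iff, a1 v hv], fun v hv => ?_, inv_sm_eq a3, fun v => ?_⟩
    · simpa using Z.neg_mem (a2 _ (mem_of_sm_eq (inv_sm_eq a3) hv))
    · simpa using Y.neg_mem (a4 (a⁻¹ • v))

theorem flag_pgroup [FaithfulSMul H W] (hZY : Z ≤ Y) (hp : ∀ v ∈ Y, p • v = 0) :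
    IsPGroup p (flag H Z Y) := fun g => by
  obtain ⟨g, a1, a2, a3, a4⟩ := g
  refine ⟨2, Subtype.ext (FaithfulSMul.eq_of_smul_eq_smul (α := W) fun v => ?_)⟩
  have h1 : ∀ y ∈ Y, g ^ p • y = y := fun y hy => by
    rw [pow_smul_eq (y := g • y - y) (by abel) (a1 _ (a2 y hy)), hp _ (hZY (a2 y hy)), add_zero]
  have h2 := ((flag H Z Y).pow_mem ⟨a1, a2, a3, a4⟩ p).2.2.2 v
  change g ^ p ^ 2 • v = (1 : H) • v
  rw [sq, pow_mul, pow_smul_eq (y := g ^ p • v - v) (by abel) (h1 _ h2), hp _ h2, add_zero, one_smul]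

theorem mem_normalizer_flag (h1 : g • Z = Z) (h2 : g • Y = Y) :
    g ∈ normalizer (flag H Z Y : Set H) := by
  have key : ∀ g : H, g • Z = Z → g • Y = Y → ∀ x ∈ flag H Z Y, g * x * g⁻¹ ∈ flag H Z Y := by
    rintro g h1 h2 x ⟨a1, a2, a3, a4⟩
    refine ⟨fun v hv => ?_, fun v hv => ?_, ?_, fun v => ?_⟩
    · rw [mul_smul, mul_smul, a1 _ (mem_of_sm_eq (inv_sm_eq h1) hv), smul_inv_smul]
    · have := mem_of_sm_eq h1 (a2 _ (mem_of_sm_eq (inv_sm_eq h2) hv))
      rwa [smul_sub, smul_inv_smul, ← mul_smul, ← mul_smul] at this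
    · rw [mul_smul, mul_smul, inv_sm_eq h2, a3, h2]
    · have := mem_of_sm_eq h2 (a4 (g⁻¹ • v))
      rwa [smul_sub, smul_inv_smul, ← mul_smul, ← mul_smul] at this
  refine mem_normalizer_iff.2 fun x => ⟨key g h1 h2 x, fun hx => ?_⟩
  simpa [mul_assoc] using key g⁻¹ (inv_sm_eq h1) (inv_sm_eq h2) _ hx

theorem flag_eq [FaithfulSMul H W] (hT : SylIn p T ⊤) (hZY : Z ≤ Y) (hp : ∀ v ∈ Y, p • v = 0)
    (h : T ≤ flag H Z Y) : flag H Z Y = T := hT.eq_of_le (flag_pgroup hZY hp) h le_top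

theorem mem_of_norm [Fact p.Prime] [Finite H] (hT : SylIn p T ⊤) (hn : g ∈ normalizer (T : Set H))
    (hg : IsPGroup p (zpowers g)) : g ∈ T := by
  have := hT.eq_of_le (IsPGroup.to_sup_of_normal_left' hT.isPGroup hg
    ((zpowers_le).2 hn)) le_sup_left le_top
  exact this ▸ mem_sup_right (mem_zpowers g)

theorem pg_conj (hT : IsPGroup p T) (ht : t ∈ T) (g : H) : IsPGroup p (zpowers (g⁻¹ * t * g)) := by
  have := (hT.to_le ((zpowers_le).2 ht)).map (MulAut.conj g⁻¹).toMonoidHom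
  rwa [MonoidHom.map_zpowers, MulEquiv.coe_toMonoidHom, MulAut.conj_apply, inv_inv] at this

/-- All nonidentity elements of the Sylow subgroup `T` have fixed points `Z`. -/
structure TI (p : ℕ) (T : Subgroup H) (Z : AddSubgroup W) : Prop where
  syl : SylIn p T ⊤
  fix : ∀ t ∈ T, ∀ v ∈ Z, t • v = v
  mem : ∀ t ∈ T, t ≠ 1 → ∀ v, t • v = v → v ∈ Z
  nrm : ∀ g : H, g • Z = Z → g ∈ normalizer (T : Set H)

/-- `m` bounds the intersections of distinct conjugates of `Z`. -/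
def MaxI (H : Type*) [Group H] [DistribMulAction H W] (Z : AddSubgroup W) (m : ℕ) : Prop :=
  ∀ h k : H, h • Z ≠ k • Z → Nat.card (h • Z ⊓ k • Z : AddSubgroup W) ≤ m

theorem exists_maxI [Finite H] (hg : g • Z ≠ Z) : ∃ g : H, g • Z ≠ Z ∧
    MaxI H Z (Nat.card (Z ⊓ g • Z : AddSubgroup W)) := by
  obtain ⟨⟨a, ha⟩, h⟩ := @Finite.exists_max {a : H // a • Z ≠ Z} ℕ _ ⟨⟨g, hg⟩⟩ _
    fun a => Nat.card (Z ⊓ a.1 • Z : AddSubgroup W)
  refine ⟨a, ha, fun x y hxy => ?_⟩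
  have := h ⟨x⁻¹ * y, fun e => hxy (by rw [mul_smul, inv_smul_eq_iff] at e; exact e.symm)⟩
  rwa [← card_sm x, sm_inf, mul_smul, smul_inv_smul] at this

theorem MaxI.eq [Finite W] {m : ℕ} {D : AddSubgroup W} (M : MaxI H Z m) (hD : Nat.card D = m)
    (h1 : D ≤ h • Z) (h2 : D ≤ k • Z) (e1 : e ∈ h • Z) (e2 : e ∈ k • Z) (he : e ∉ D) :
    h • Z = k • Z := by
  by_contra hne
  have := AddSubgroup.eq_of_le_of_card_ge (le_inf h1 h2) (hD ▸ M h k hne)
  exact he (this ▸ ⟨e1, e2⟩)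

variable [Fact p.Prime] [Finite H] [Finite W]

theorem TI.stab (J : TI p T Z) (ht : t ∈ T) (h1 : t • g • Z = g • Z) (h2 : g • Z ≠ Z) : t = 1 := by
  by_contra h0
  have hx : g⁻¹ * t * g ∈ T := mem_of_norm J.syl (J.nrm _ (by
    rw [mul_smul, mul_smul, h1, inv_smul_smul])) (pg_conj J.syl.isPGroup ht g)
  refine h2 (AddSubgroup.eq_of_le_of_card_ge (fun v hv => J.mem t ht h0 v ?_) (card_sm g Z).ge)
  have := J.fix _ hx _ (mem_sm.1 hv)
  rwa [mul_smul, smul_inv_smul, mul_smul, smul_left_cancel_iff] at this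

theorem TI.key (J : TI p T Z) (M : MaxI H Z (Nat.card (Z ⊓ g • Z : AddSubgroup W)))
    (h2 : g • Z ≠ Z) (ht : t ∈ T) (he : e ∈ g • Z) (he' : e ∉ Z) (hd : t • e - e ∈ Z ⊓ g • Z) :
    t = 1 := by
  refine J.stab ht ?_ h2
  rw [← mul_smul]
  refine M.eq rfl (fun v hv => ?_) inf_le_right (e := t • e) (by
    rw [mul_smul]; exact sm_mem_sm.2 he) (by simpa using (g • Z).add_mem hd.2 he) fun h => he' ?_
  · rw [mul_smul, ← J.fix t ht v hv.1]; exact sm_mem_sm.2 hv.2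
  · simpa using Z.sub_mem h.1 hd.1

/-- A `p`-element fixes exactly a conjugate of `Z`. -/
theorem TI.exists_fix (J : TI p T Z) (hk : IsPGroup p (zpowers k)) (h1 : k ≠ 1) :
    ∃ h : H, ∀ v : W, k • v = v → v ∈ h • Z := by
  obtain ⟨y, -, hy⟩ := J.syl.exists_conj hk le_top
  refine ⟨y⁻¹, fun v hv => ?_⟩
  rw [mem_sm, inv_inv]
  refine J.mem _ (hy k (mem_zpowers k)) (fun e => h1 (by simpa using e)) _ ?_
  rw [mul_smul, mul_smul, inv_smul_smul, hv]

section R1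

variable {K : Type*} [Field K] [Finite K] [CharP K p] {π : W →+ K} {ι : K →+ W}

/-- `T` is the group of transvections `v ↦ v + ι (b π v)`. -/
structure R1 (p : ℕ) (T : Subgroup H) (π : W →+ K) (ι : K →+ W) : Prop where
  syl : SylIn p T ⊤
  πι : ∀ a, π (ι a) = 0
  ker : ∀ v, π v = 0 → ∃ a, v = ι a
  inj : Function.Injective ι
  of_mem : ∀ t ∈ T, ∃ b, ∀ v, t • v = v + ι (b * π v)
  ex : ∀ b, ∃ t ∈ T, ∀ v, t • v = v + ι (b * π v)

variable [FaithfulSMul H W] (R : R1 p T π ι)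
include R

omit [Fact p.Prime] [Finite H] [Finite W] [Finite K] in
theorem R1.flag_eq : flag H π.ker π.ker = T := by
  refine ExSp4.flag_eq R.syl le_rfl (fun v hv => ?_) fun t ht => ?_
  · obtain ⟨a, rfl⟩ := R.ker v hv
    rw [← map_nsmul, nsmul_eq_mul, CharP.cast_eq_zero, zero_mul, map_zero]
  · obtain ⟨b, hb⟩ := R.of_mem t ht
    have h1 : ∀ v ∈ π.ker, t • v = v := fun v hv => by
      rw [hb, (π.mem_ker).1 hv, mul_zero, map_zero, add_zero]
    have h2 : ∀ v, t • v - v ∈ π.ker := fun v => by rw [hb, add_sub_cancel_left]; exact R.πι _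
    refine ⟨h1, fun v _ => h2 v, le_antisymm (fun v hv => ?_) fun v hv => ?_, h2⟩
    · have := h1 _ (mem_sm.1 hv)
      rw [smul_inv_smul] at this
      exact this ▸ mem_sm.1 hv
    · rw [← h1 v hv]; exact sm_mem_sm.2 hv

omit [Fact p.Prime] [Finite H] [Finite W] [Finite K] in
theorem R1.ti : TI p T π.ker := by
  refine ⟨R.syl, fun t ht => (R.flag_eq ▸ ht : t ∈ flag H π.ker π.ker).1, fun t ht h1 v hv => ?_,
    fun g hg => R.flag_eq ▸ mem_normalizer_flag hg hg⟩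
  obtain ⟨b, hb⟩ := R.of_mem t ht
  rw [hb, add_eq_left, ← map_zero ι, R.inj.eq_iff, mul_eq_zero] at hv
  refine hv.resolve_left fun h0 => h1 (FaithfulSMul.eq_of_smul_eq_smul (α := W) fun v => ?_)
  rw [hb, h0, zero_mul, map_zero, add_zero, one_smul]

omit [Finite K] in
theorem R1.disj (hne : h • π.ker ≠ k • π.ker) (h1 : v ∈ h • π.ker) (h2 : v ∈ k • π.ker) :
    v = 0 := by
  obtain ⟨g, hg, M⟩ := exists_maxI (g := h⁻¹ * k) (Z := π.ker) fun e => hne (by
    rw [mul_smul, inv_smul_eq_iff] at e; exact e.symm)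
  have hb : π.ker ⊓ g • π.ker = ⊥ := by
    refine (AddSubgroup.eq_bot_iff_forall _).2 fun d hd => ?_
    obtain ⟨e, he, he'⟩ := exists_not_mem (card_sm g π.ker) hg
    obtain ⟨a, rfl⟩ := R.ker d hd.1
    obtain ⟨t, ht, hb⟩ := R.ex (a / π e)
    have h3 : t • e - e = ι a := by rw [hb, div_mul_cancel₀ _ he', add_sub_cancel_left]
    rw [← h3, R.ti.key M hg ht he he' (h3 ▸ hd), one_smul, sub_self]
  have := M h k hne
  rw [hb, AddSubgroup.card_bot, AddSubgroup.card_le_one_iff_eq_bot] at this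
  exact (AddSubgroup.mem_bot).1 (this ▸ ⟨h1, h2⟩)

theorem R1.sec (hg : g • π.ker ≠ π.ker) : ∃ σ : K →+ W, (∀ x, π (σ x) = x) ∧
    ∀ x, σ x ∈ g • π.ker := by
  have hi : Function.Injective (π.comp (g • π.ker).subtype) := (injective_iff_map_eq_zero _).2
    fun v hv => Subtype.ext (R.disj (h := g) (k := 1) (by simpa using hg) v.2 (by simpa using hv))
  have hc : Nat.card K = Nat.card π.ker := Nat.card_congr (Equiv.ofBijective
    (fun a => ⟨ι a, R.πι a⟩) ⟨fun a b e => R.inj (congrArg Subtype.val e), fun v =>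
      (R.ker v v.2).imp fun a e => Subtype.ext e.symm⟩)
  let e := AddEquiv.ofBijective _ ((Nat.bijective_iff_injective_and_card _).2
    ⟨hi, by rw [card_sm, hc]⟩)
  exact ⟨(g • π.ker).subtype.comp e.symm.toAddMonoidHom, fun x => e.apply_symm_apply x,
    fun x => (e.symm x).2⟩

omit [Fact p.Prime] [Finite H] [Finite W] [Finite K] [CharP K p] [FaithfulSMul H W] in
theorem R1.dec {σ : K →+ W} (hσ : ∀ x, π (σ x) = x) (v : W) : ∃ x y, v = σ x + ι y := by
  obtain ⟨y, hy⟩ := R.ker (v - σ (π v)) (by rw [map_sub, hσ, sub_self])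
  exact ⟨π v, y, by rw [← hy]; abel⟩

omit [Fact p.Prime] [Finite H] [Finite W] [Finite K] [CharP K p] [FaithfulSMul H W] in
theorem R1.ext {σ : K →+ W} (hσ : ∀ x, π (σ x) = x) {x y x' y' : K}
    (h : σ x + ι y = σ x' + ι y') : x = x' ∧ y = y' := by
  have h1 : x = x' := by simpa [hσ, R.πι] using congrArg π h
  subst h1
  exact ⟨rfl, R.inj (add_left_cancel h)⟩

/-- The conjugates of `ker π` form the spread of lines. -/
theorem R1.spread {σ : K →+ W} (hσ : ∀ x, π (σ x) = x) (hg : g • π.ker ≠ π.ker)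
    (hσ' : ∀ x, σ x ∈ g • π.ker) (hh : h • π.ker ≠ π.ker) :
    ∃ t ∈ T, ∃ b, h • π.ker = t • g • π.ker ∧ (∀ v, t • v = v + ι (b * π v)) ∧
      ∀ x y, σ x + ι y ∈ h • π.ker ↔ y = b * x := by
  obtain ⟨τ, hτ, hτ'⟩ := R.sec hh
  obtain ⟨x, b, hb⟩ := R.dec hσ (τ 1)
  obtain rfl : 1 = x := by simpa [hσ, hτ, R.πι] using congrArg π hb
  obtain ⟨t, ht, e⟩ := R.ex b
  have h1 : ∀ x, σ x + ι (b * x) ∈ t • g • π.ker := fun x => by
    have := sm_mem_sm (g := t).2 (hσ' x)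
    rwa [e, hσ] at this
  have h2 : h • π.ker = t • g • π.ker := by
    by_contra hne
    rw [← mul_smul] at hne h1
    have := R.disj hne (hτ' 1) (by simpa [hb] using h1 1)
    simpa [this] using hτ 1
  refine ⟨t, ht, b, h2, e, fun x y => ⟨fun hm => ?_, fun e => by rw [e, h2]; exact h1 x⟩⟩
  have := R.disj (h := h) (k := 1) (by simpa using hh) ((h • π.ker).sub_mem hm (h2 ▸ h1 x))
    (by simp [hσ, R.πι])
  exact R.inj (by simpa [sub_eq_zero] using this)

/-- The conjugate of `T` is the group of lower transvections. -/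
theorem R1.lower {σ : K →+ W} (hσ : ∀ x, π (σ x) = x) (hg : g • π.ker ≠ π.ker)
    (hσ' : ∀ x, σ x ∈ g • π.ker) (c : K) :
    ∃ t ∈ T, ∀ x y, (g * t * g⁻¹) • (σ x + ι y) = σ (x + c * y) + ι y := by
  have A : ∀ t ∈ T, ∃ c, ∀ x y, (g * t * g⁻¹) • (σ x + ι y) = σ (x + c * y) + ι y := by
    intro t ht
    have hf : g * t * g⁻¹ ∈ flag H (g • π.ker) (g • π.ker) := by
      obtain ⟨a1, -, a3, a4⟩ : t ∈ flag H π.ker π.ker := R.flag_eq ▸ ht
      have a5 : ∀ v, (g * t * g⁻¹) • v - v ∈ g • π.ker := fun v => by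
        simpa [mem_sm, smul_sub, mul_smul] using a4 (g⁻¹ • v)
      refine ⟨fun v hv => ?_, fun v _ => a5 v, by simp [mul_smul, a3], a5⟩
      rw [mul_smul, mul_smul, a1 _ (mem_sm.1 hv), smul_inv_smul]
    generalize g * t * g⁻¹ = s at hf
    obtain ⟨a1, -, -, a4⟩ := hf
    have b1 : ∀ x y, s • (σ x + ι y) = σ (x + π (s • ι y)) + ι y := fun x y => by
      have h1 := (g • π.ker).sub_mem (a4 (ι y)) (hσ' (π (s • ι y)))
      have := R.disj (h := g) (k := 1) (by simpa using hg) h1 (by simp [hσ, R.πι])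
      rw [smul_add, a1 _ (hσ' x), map_add, add_assoc, add_right_inj, ← sub_eq_zero, ← this]; abel
    obtain ⟨u, hu, eu⟩ := R.ex 1
    have b2 : ∀ x, σ (x + π (s • ι x)) + ι x ∈ (s * u * g) • π.ker := fun x => by
      have := sm_mem_sm (g := s * u).2 (hσ' x)
      rwa [← mul_smul (s * u) g, mul_smul s u (σ x), eu, hσ, one_mul, b1] at this
    suffices ∃ c, ∀ x, π (s • ι x) = c * x from this.imp fun c hc x y => by rw [b1, hc]
    by_cases h0 : (s * u * g) • π.ker = π.ker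
    · refine ⟨-1, fun x => ?_⟩
      have := b2 x
      rw [h0, AddMonoidHom.mem_ker, map_add, hσ, R.πι, add_zero] at this
      linear_combination this
    · obtain ⟨-, -, b, -, -, hb⟩ := R.spread hσ hg hσ' h0
      have h1 := (hb _ _).1 (b2 1)
      have h2 : b ≠ 0 := fun e => by simp [e] at h1
      refine ⟨b⁻¹ - 1, fun x => ?_⟩
      have := (hb _ _).1 (b2 x)
      field_simp
      linear_combination -this
  choose! f hf using A
  choose s hs es using R.ex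
  have hi : Function.Injective fun b => f (s b) := fun a b e => by
    have h1 : g * s a * g⁻¹ = g * s b * g⁻¹ := FaithfulSMul.eq_of_smul_eq_smul (α := W) fun v => by
      obtain ⟨x, y, rfl⟩ := R.dec hσ v
      rw [hf _ (hs a), hf _ (hs b), show f (s a) = f (s b) from e]
    have h2 := es a (σ 1)
    rw [show s a = s b by simpa using h1, es b, hσ, add_right_inj] at h2
    simpa using (R.inj h2).symm
  obtain ⟨b, rfl⟩ := Finite.injective_iff_surjective.1 hi c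
  exact ⟨s b, hs b, hf _ (hs b)⟩

/-- Weyl elements in any normal subgroup containing `T`. -/
theorem R1.weyl {σ : K →+ W} (hσ : ∀ x, π (σ x) = x) (hg : g • π.ker ≠ π.ker)
    (hσ' : ∀ x, σ x ∈ g • π.ker) {N : Subgroup H} (hN : T ≤ N)
    (hN' : ∀ t ∈ T, g * t * g⁻¹ ∈ N) {s : K} (hs : s ≠ 0) :
    ∃ w ∈ N, ∀ x y, w • (σ x + ι y) = σ (-y / s) + ι (s * x) := by
  obtain ⟨t, ht, et⟩ := R.ex s
  obtain ⟨u, hu, eu⟩ := R.lower hσ hg hσ' (-s⁻¹)
  have e : ∀ x y, t • (σ x + ι y) = σ x + ι (y + s * x) := fun x y => by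
    rw [et, map_add, hσ, R.πι, add_zero, map_add, add_assoc]
  refine ⟨t * (g * u * g⁻¹) * t, N.mul_mem (N.mul_mem (hN ht) (hN' u hu)) (hN ht), fun x y => ?_⟩
  rw [mul_smul, mul_smul, e, eu, e]
  congr 2 <;> field_simp <;> ring

theorem R1.torus {σ : K →+ W} (hσ : ∀ x, π (σ x) = x) (hg : g • π.ker ≠ π.ker)
    (hσ' : ∀ x, σ x ∈ g • π.ker) {N : Subgroup H} (hN : T ≤ N)
    (hN' : ∀ t ∈ T, g * t * g⁻¹ ∈ N) {s : K} (hs : s ≠ 0) :
    ∃ w ∈ N, ∀ x y, w • (σ x + ι y) = σ (x / s) + ι (s * y) := by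
  obtain ⟨a, ha, ea⟩ := R.weyl hσ hg hσ' hN hN' hs
  obtain ⟨b, hb, eb⟩ := R.weyl hσ hg hσ' hN hN' (s := -1) (by simp)
  refine ⟨a * b, N.mul_mem ha hb, fun x y => ?_⟩
  rw [mul_smul, eb, ea]
  congr 2 <;> field_simp

end R1

end CfsgLib.ExSp4
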